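import Cfsg.Agent.JankoThompson.Final
import Cfsg.Agent.Blocks.PrincipalSimple
import Cfsg.Agent.Blocks.LocalRing
import Cfsg.Agent.S0343
import Cfsg.Agent.Walter.Known

/-!
# Walter, strong embedding: no element of order `3r` in a group of Ree order

In a simple group with centralizer `Z₂ × PSL₂(q)` of an involution, `q = 3^(2m+1)`, there are
irreducible characters `A`, `B`, `C` of degrees `q³`, `q g`, `g` (`g = q² - q + 1`) with
`1 + A = B + C` on elements of odd order.  At a commuting product of an element of order `3` and an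
element of order a prime `r` dividing `g` but not `q (q² - 1)` all three vanish, so there is none.
-/

set_option autoImplicit false
set_option linter.style.haveILetI false
set_option linter.unusedSectionVars false

open Subgroup

namespace CfsgLib.Walter

universe u

theorem twoType_hab {J : Type u} [Group J] (hJ : TwoType J) :
    ∀ P : Sylow 2 J, ∀ a b : P, a * b = b * a := fun P a b =>
  Subtype.ext (hJ.comm _ P.isPGroup' a.2 b.2).eq

/-- The order of a simple group with this involution centralizer depends only on the field. -/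
theorem card_eq_of_centralizer {J K : Type u} [Group J] [Finite J] [IsSimpleGroup J] [Group K]
    [Finite K] [IsSimpleGroup K] (hJ : TwoType J) (hK : TwoType K) {F : Type} [Field F] [Fintype F]
    (h5 : 5 ≤ Fintype.card F) {t : J} (ht : orderOf t = 2)
    (e : centralizer ({t} : Set J) ≃*
      Multiplicative (ZMod 2) × Matrix.ProjectiveSpecialLinearGroup (Fin 2) F)
    {u : K} (hu : orderOf u = 2)
    (e' : centralizer ({u} : Set K) ≃*
      Multiplicative (ZMod 2) × Matrix.ProjectiveSpecialLinearGroup (Fin 2) F) :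
    Nat.card J = Nat.card K := by
  rcases Cfsg.Agent.S0343.result (twoType_hab hJ) (by omega) t ht ⟨e⟩ with ⟨m, hm, hq, hc⟩ | ⟨hq, hc⟩ <;>
    rcases Cfsg.Agent.S0343.result (twoType_hab hK) (by omega) u hu ⟨e'⟩ with
      ⟨n, hn, hq', hc'⟩ | ⟨hq', hc'⟩
  · rw [hc, hc', ← hq, hq']
  · exfalso
    have : 3 ^ 3 ≤ 3 ^ (2 * m + 1) := Nat.pow_le_pow_right (by norm_num) (by omega)
    omega
  · exfalso
    have : 3 ^ 3 ≤ 3 ^ (2 * n + 1) := Nat.pow_le_pow_right (by norm_num) (by omega)
    omega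
  · rw [hc.2, hc'.2]

/-- No element of order three commutes with an element of order `r`. -/
theorem not_commute_three {J : Type u} [Group J] [Finite J] [IsSimpleGroup J] (hJ : TwoType J)
    {F : Type} [Field F] [Fintype F] {m : ℕ} (hm : 1 ≤ m) (hq : Fintype.card F = 3 ^ (2 * m + 1))
    {t : J} (ht : orderOf t = 2)
    (e : centralizer ({t} : Set J) ≃*
      Multiplicative (ZMod 2) × Matrix.ProjectiveSpecialLinearGroup (Fin 2) F)
    {r : ℕ} (hr : r.Prime) (hr2 : r ≠ 2)
    (hrg : r ∣ Fintype.card F ^ 2 - Fintype.card F + 1)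
    (hrn : ¬ r ∣ Fintype.card F * (Fintype.card F ^ 2 - 1))
    {x y : J} (hx : orderOf x = 3) (hy : orderOf y = r) (hxy : Commute x y) : False := by
  classical
  haveI := Fintype.ofFinite J
  have h27 : 27 ≤ Fintype.card F := by
    rw [hq]
    calc (27 : ℕ) = 3 ^ 3 := by norm_num
      _ ≤ _ := Nat.pow_le_pow_right (by norm_num) (by omega)
  obtain ⟨⟨l, l', hll⟩, hcen⟩ := JankoThompson.psl_facts (F := F) (by omega)
  obtain ⟨E, -⟩ := JankoThompson.exists_emb hcen ht e
  obtain ⟨hperf, -⟩ := JankoThompson.perfect_of_noncomm (G := J) (l := E.ι l) (m := E.ι l')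
    fun h => hll (E.inj (by rw [map_mul, map_mul, h]))
  have h8 : Fintype.card F % 8 = 3 := by
    rw [hq, pow_succ, pow_mul, Nat.mul_mod, Nat.pow_mod]; norm_num
  have hyp : JankoThompson.Hyp E :=
    { simple := inferInstance
      perf := hperf
      ab := twoType_hab hJ
      mod8 := ⟨by omega, Or.inl h8⟩ }
  obtain ⟨-, -, hcard, A, B, C, hA, hB, hC, hrel⟩ := JankoThompson.concl_main hyp
  set q := Fintype.card F with hqdef
  obtain ⟨d, hd⟩ : ∃ d, q = d + 1 := ⟨q - 1, by omega⟩
  have hA' : Cfsg.charDegree (A : J → ℂ) = q ^ 3 := by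
    have h1 := Blocks.charDegree_cast A
    rw [ReeTypeS3.deg_spec] at h1
    have : ReeTypeS3.deg A = q ^ 3 := by exact_mod_cast hA
    rw [this] at h1
    exact_mod_cast h1
  have hg' : ((q ^ 2 - q + 1 : ℕ) : ℤ) = (q : ℤ) ^ 2 - q + 1 := by
    have : q ≤ q ^ 2 := by nlinarith
    push_cast [this]; ring
  have hB' : Cfsg.charDegree (B : J → ℂ) = q * (q ^ 2 - q + 1) := by
    have h1 := Blocks.charDegree_cast B
    rw [ReeTypeS3.deg_spec] at h1
    have : ReeTypeS3.deg B = q * (q ^ 2 - q + 1) := by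
      have h := hB; rw [← hg'] at h; exact_mod_cast h
    rw [this] at h1
    exact_mod_cast h1
  have hC' : Cfsg.charDegree (C : J → ℂ) = q ^ 2 - q + 1 := by
    have h1 := Blocks.charDegree_cast C
    rw [ReeTypeS3.deg_spec] at h1
    have : ReeTypeS3.deg C = q ^ 2 - q + 1 := by
      have h := hC; rw [← hg'] at h; exact_mod_cast h
    rw [this] at h1
    exact_mod_cast h1
  have hJc : Nat.card J = q ^ 3 * ((q ^ 2 - q + 1) * (q + 1) * (q - 1)) := by
    have h1 : ((q ^ 3 * ((q ^ 2 - q + 1) * (q + 1) * (q - 1)) : ℕ) : ℤ) = (Nat.card J : ℤ) := by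
      rw [hcard]; push_cast [hg', show 1 ≤ q by omega]; ring
    exact_mod_cast h1.symm
  have h3q : 3 ∣ q := hq ▸ dvd_pow_self 3 (by omega)
  have hr3 : r ≠ 3 := fun h => hrn (dvd_mul_of_dvd_left (h ▸ h3q) _)
  have hcop : Nat.Coprime (orderOf x) (orderOf y) := by
    rw [hx, hy]; exact (Nat.coprime_primes Nat.prime_three hr).2 (Ne.symm hr3)
  have hz : orderOf (x * y) = 3 * r := by rw [hxy.orderOf_mul_eq_mul_orderOf_of_coprime hcop, hx, hy]
  have hodd : Odd (orderOf (x * y)) := hz ▸ (by decide : Odd 3).mul (hr.odd_of_ne_two hr2)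
  have hpos : 0 < q ^ 2 - q + 1 := Nat.succ_pos _
  have hA0 : (A : J → ℂ) (x * y) = 0 := by
    haveI : Fact (Nat.Prime 3) := ⟨Nat.prime_three⟩
    obtain ⟨M, hM⟩ := Blocks.exists_isPModular 3 Nat.prime_three
    haveI := hM.2.1.isPrime
    refine Blocks.eq_zero_of_singular_of_defect_zero hM A ?_ (hz ▸ dvd_mul_right 3 r)
    rw [hA', hJc, Nat.mul_div_cancel_left _ (by positivity)]
    intro h
    have hd3 : ¬ 3 ∣ q + 1 ∧ ¬ 3 ∣ q - 1 ∧ ¬ 3 ∣ q ^ 2 - q + 1 := by
      refine ⟨by omega, by omega, fun h' => ?_⟩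
      have : 3 ∣ q ^ 2 - q := Nat.dvd_sub (h3q.trans (dvd_pow_self q two_ne_zero)) h3q
      omega
    rcases Nat.prime_three.dvd_mul.1 h with h | h
    · rcases Nat.prime_three.dvd_mul.1 h with h | h
      exacts [hd3.2.2 h, hd3.1 h]
    · exact hd3.2.1 h
  have hsq : q ^ 2 - 1 = (q + 1) * (q - 1) := by
    rw [← Nat.sq_sub_sq, one_pow]
  have hrq : ¬ r ∣ q := fun h => hrn (dvd_mul_of_dvd_left h _)
  haveI : Fact r.Prime := ⟨hr⟩
  obtain ⟨M, hM⟩ := Blocks.exists_isPModular r hr
  haveI := hM.2.1.isPrime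
  have hB0 : (B : J → ℂ) (x * y) = 0 := by
    refine Blocks.eq_zero_of_singular_of_defect_zero hM B ?_ (hz ▸ dvd_mul_left r 3)
    rw [hB', hJc, show q ^ 3 * ((q ^ 2 - q + 1) * (q + 1) * (q - 1)) =
      q * (q ^ 2 - q + 1) * (q ^ 2 * ((q + 1) * (q - 1))) by ring,
      Nat.mul_div_cancel_left _ (by positivity), ← hsq]
    intro h
    exact (hr.dvd_mul.1 h).elim (fun h => hrq (hr.dvd_of_dvd_pow h))
      fun h => hrn (dvd_mul_of_dvd_right h _)
  have hC0 : (C : J → ℂ) (x * y) = 0 := by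
    refine Blocks.eq_zero_of_singular_of_defect_zero hM C ?_ (hz ▸ dvd_mul_left r 3)
    rw [hC', hJc, show q ^ 3 * ((q ^ 2 - q + 1) * (q + 1) * (q - 1)) =
      (q ^ 2 - q + 1) * (q ^ 3 * ((q + 1) * (q - 1))) by ring,
      Nat.mul_div_cancel_left _ hpos, ← hsq]
    intro h
    exact (hr.dvd_mul.1 h).elim (fun h => hrq (hr.dvd_of_dvd_pow h))
      fun h => hrn (dvd_mul_of_dvd_right h _)
  have := hrel (x * y) hodd
  rw [hA0, hB0, hC0] at this
  norm_num at this

end CfsgLib.Walter
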