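import Cfsg.Agent.Walter.SE.ReeChars
import Cfsg.Agent.PLocal.PSolvable
import Cfsg.Agent.Zsigmondy.Basic

/-!
# Walter, strong embedding: the odd subgroups of a group of Ree order are small

An odd subgroup whose order times `f = 2m+1` is a multiple of `q² (q² - q + 1)` would have a
Sylow 3-subgroup of order at least `q² / f` acting without fixed points on a nontrivial `r`-group,
`r` a primitive prime divisor of `3^(6f) - 1`, of order at most `q + √(3q) + 1`.
-/

set_option autoImplicit false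
set_option linter.style.haveILetI false
set_option linter.unusedSectionVars false

open Subgroup

namespace CfsgLib.Walter

universe u

theorem exists_orderOf_mem {X : Type*} [Group X] [Finite X] {H : Subgroup X} {r : ℕ} (hr : r.Prime)
    (h : r ∣ Nat.card H) : ∃ y ∈ H, orderOf y = r := by
  haveI : Fact r.Prime := ⟨hr⟩
  obtain ⟨y, hy⟩ := exists_prime_orderOf_dvd_card' (G := H) r h
  exact ⟨y, y.2, by rw [orderOf_coe, hy]⟩

theorem exists_orderOf_of_isPGroup {X : Type*} [Group X] [Finite X] {r : ℕ} (hr : r.Prime) {a : X}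
    (ha : a ≠ 1) (h : ∃ k : ℕ, a ^ r ^ k = 1) : ∃ i : ℕ, orderOf (a ^ i) = r := by
  obtain ⟨k, hk⟩ := h
  obtain ⟨j, -, hj⟩ := (Nat.dvd_prime_pow hr).1 (orderOf_dvd_of_pow_eq_one hk)
  obtain ⟨i, rfl⟩ : ∃ i, j = i + 1 := by
    refine ⟨j - 1, (Nat.sub_add_cancel (Nat.pos_of_ne_zero fun h0 => ha ?_)).symm⟩
    rwa [h0, pow_zero, orderOf_eq_one_iff] at hj
  refine ⟨r ^ i, ?_⟩
  rw [orderOf_pow' _ (pow_ne_zero i hr.ne_zero), hj,
    Nat.gcd_eq_right (pow_dvd_pow r (Nat.le_succ i)), pow_succ,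
    Nat.mul_div_cancel_left _ (pow_pos hr.pos i)]

/-- An element of prime order `r` acts trivially on a 3-group too small for it. -/
theorem commute_of_small {X : Type*} [Group X] [Finite X] {r n : ℕ} (hr : r.Prime) (hr3 : r ≠ 3)
    (hprim : ∀ k, 0 < k → k ≤ n → ¬ r ∣ 3 ^ k - 1) {T : Subgroup X} (hT : IsPGroup 3 T)
    (hn : Nat.card T ≤ 3 ^ n) {y : X} (hy : orderOf y = r) (hyT : y ∈ normalizer (T : Set X)) :
    ∀ x ∈ T, Commute y x := by
  haveI : Fact (Nat.Prime 3) := ⟨Nat.prime_three⟩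
  haveI : Fact r.Prime := ⟨hr⟩
  have hR : IsPGroup r (zpowers y) := IsPGroup.of_card (n := 1) (by rw [Nat.card_zpowers, hy, pow_one])
  have hmem : ∀ g ∈ zpowers y, ∀ x ∈ T, g * x * g⁻¹ ∈ T := fun g hg x hx =>
    (mem_normalizer_iff.1 (zpowers_le.2 hyT hg) x).1 hx
  letI act : MulAction (zpowers y) T :=
    { smul := fun g x => ⟨(g : X) * x * (g : X)⁻¹, hmem g g.2 x x.2⟩
      one_smul := fun x => Subtype.ext (show (1 : X) * x * (1 : X)⁻¹ = x by group)
      mul_smul := fun g g' x => Subtype.ext (show ((g : X) * g') * x * ((g : X) * g')⁻¹ =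
        (g : X) * ((g' : X) * x * (g' : X)⁻¹) * (g : X)⁻¹ by group) }
  have hmod := hR.card_modEq_card_fixedPoints T
  let C : Subgroup X := T ⊓ centralizer ({y} : Set X)
  let ψ : MulAction.fixedPoints (zpowers y) T ≃ C :=
    { toFun := fun x => ⟨(x : T), mem_inf.2 ⟨(x : T).2, mem_centralizer_singleton_iff.2 (by
        have h := congrArg Subtype.val (x.2 (⟨y, mem_zpowers y⟩ : zpowers y))
        exact (mul_inv_eq_iff_eq_mul.1 h).symm)⟩⟩
      invFun := fun x => ⟨⟨x, (mem_inf.1 x.2).1⟩, fun g => Subtype.ext (by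
        obtain ⟨g, i, rfl⟩ := g
        show y ^ i * (x : X) * (y ^ i)⁻¹ = x
        have hc : Commute y (x : X) :=
          (mem_centralizer_singleton_iff.1 (mem_inf.1 x.2).2).symm
        rw [(hc.zpow_left i).eq, mul_inv_cancel_right])⟩
      left_inv := fun x => rfl
      right_inv := fun x => rfl }
  rw [Nat.card_congr ψ] at hmod
  obtain ⟨k, hk⟩ := IsPGroup.iff_card.1 hT
  obtain ⟨j, hj⟩ := IsPGroup.iff_card.1 (hT.to_le (inf_le_left : C ≤ T))
  have hjk : j ≤ k := by
    have := card_le_of_le (inf_le_left : C ≤ T)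
    rw [hj, hk] at this
    exact (Nat.pow_le_pow_iff_right (by norm_num)).1 this
  have hkn : k ≤ n := (Nat.pow_le_pow_iff_right (by norm_num)).1 (hk ▸ hn)
  rw [hk, hj] at hmod
  have hdvd : r ∣ 3 ^ j * (3 ^ (k - j) - 1) := by
    have h := (Nat.modEq_iff_dvd' (Nat.pow_le_pow_right (by norm_num) hjk)).1 hmod.symm
    rwa [Nat.mul_sub, ← pow_add, Nat.add_sub_cancel' hjk, mul_one]
  have hjeq : k - j = 0 := by
    by_contra hne
    rcases hr.dvd_mul.1 hdvd with h | h
    · exact hr3 ((Nat.prime_dvd_prime_iff_eq hr Nat.prime_three).1 (hr.dvd_of_dvd_pow h))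
    · exact hprim _ (Nat.pos_of_ne_zero hne) (by omega) h
  have hCT : C = T := eq_of_le_of_card_ge inf_le_left (by rw [hk, hj, show j = k by omega])
  intro x hx
  rw [← hCT] at hx
  exact (mem_centralizer_singleton_iff.1 (mem_inf.1 hx).2).symm

/-- An odd group without elements of order `3r` has a Sylow 3-subgroup normalizing a nontrivial
`r`-subgroup, if elements of order `r` centralize the 3-subgroups they normalize. -/
theorem exists_three_normalizes {D : Type u} [Group D] [Finite D] (hD : Odd (Nat.card D)) {r : ℕ}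
    (hr : r.Prime) (h3 : 3 ∣ Nat.card D) (hrd : r ∣ Nat.card D) (hr3 : r ≠ 3)
    (hno : ∀ x y : D, orderOf x = 3 → orderOf y = r → Commute x y → False)
    (hact : ∀ (T : Subgroup D) (y : D), IsPGroup 3 T → orderOf y = r →
      y ∈ normalizer (T : Set D) → ∀ x ∈ T, Commute y x) :
    ∃ (R P : Subgroup D), R ≠ ⊥ ∧ IsPGroup r R ∧ IsPGroup 3 P ∧
      (Nat.card P) = 3 ^ (Nat.card D).factorization 3 ∧ P ≤ normalizer (R : Set D) := by
  haveI : Fact (Nat.Prime 3) := ⟨Nat.prime_three⟩
  haveI : Fact r.Prime := ⟨hr⟩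
  haveI : Group.IsSolvable D := Cfsg.Agent.S0205.result hD
  set W := Cfsg.pPrimeCore 3 D with hWdef
  haveI : W.Normal := inferInstance
  have hW3 : ¬ 3 ∣ Nat.card W :=
    PLocal.not_dvd_iff_coprime.1 (PLocal.coprime_card_pPrimeCore 3 D)
  have hcase : ∀ N : Subgroup D, N ⊔ W = ⊤ → W.index ∣ Nat.card N := fun N hN => by
    rw [show W.index = W.relIndex N by rw [← relIndex_top_right, ← hN, relIndex_sup_right]]
    exact relIndex_dvd_card W N
  by_cases hrW : r ∣ Nat.card W
  · obtain ⟨R₀⟩ : Nonempty (Sylow r W) := inferInstance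
    set R := (R₀ : Subgroup W).map W.subtype
    obtain ⟨P₀⟩ : Nonempty (Sylow 3 (normalizer (R : Set D))) := inferInstance
    refine ⟨R, (P₀ : Subgroup _).map (normalizer (R : Set D)).subtype, ?_, R₀.isPGroup'.map _,
      P₀.isPGroup'.map _, ?_, map_subtype_le _⟩
    · intro h
      rw [Subgroup.map_eq_bot_iff_of_injective _ W.subtype_injective] at h
      have := R₀.pow_dvd_card_of_pow_dvd_card (n := 1) (by simpa using hrW)
      rw [h, card_bot, pow_one] at this
      exact hr.ne_one (Nat.dvd_one.1 this)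
    · rw [card_map_of_injective (normalizer (R : Set D)).subtype_injective, P₀.card_eq_multiplicity]
      congr 1
      refine le_antisymm ((Nat.factorization_le_iff_dvd Nat.card_pos.ne' Nat.card_pos.ne').2
        (card_subgroup_dvd_card _) 3) ?_
      have hd := hcase _ (Sylow.normalizer_sup_eq_top R₀)
      rw [← card_mul_index W, Nat.factorization_mul Nat.card_pos.ne' index_ne_zero_of_finite,
        Finsupp.add_apply, Nat.factorization_eq_zero_of_not_dvd hW3, zero_add]
      exact (Nat.factorization_le_iff_dvd index_ne_zero_of_finite Nat.card_pos.ne').2 hd 3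
  · exfalso
    have hi3 : 3 ∣ W.index :=
      ((Nat.prime_three.dvd_mul).1 (by rwa [card_mul_index W])).resolve_left hW3
    have hir : r ∣ W.index := (hr.dvd_mul.1 (by rwa [card_mul_index W])).resolve_left hrW
    haveI : Nontrivial (D ⧸ W) := Finite.one_lt_card_iff_nontrivial.1 (by
      rw [← index_eq_card]
      exact Nat.lt_of_lt_of_le (by norm_num) (Nat.le_of_dvd (Nat.pos_of_ne_zero
        index_ne_zero_of_finite) hi3))
    have hO := (PLocal.pCore_ne_bot_or_of_isPSolvable (G := D ⧸ W) (p := 3)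
      PLocal.isPSolvable_of_isSolvable).resolve_right
      (not_not.2 (PLocal.pPrimeCore_quotient_pPrimeCore_eq_bot 3 D))
    set U := (Cfsg.pCore 3 (D ⧸ W)).comap (QuotientGroup.mk' W) with hUdef
    have hUc : Nat.card U = Nat.card W * Nat.card (Cfsg.pCore 3 (D ⧸ W)) := by
      rw [hUdef, ← relIndex_bot_left, ← relIndex_mul_relIndex ⊥ W _ bot_le
        (le_comap_mk' W _), relIndex_bot_left]
      congr 1
      have := relIndex_comap (H := (⊥ : Subgroup (D ⧸ W))) (QuotientGroup.mk' W)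
        ((Cfsg.pCore 3 (D ⧸ W)).comap (QuotientGroup.mk' W))
      rw [MonoidHom.comap_bot, QuotientGroup.ker_mk',
        map_comap_eq_self_of_surjective (QuotientGroup.mk'_surjective W), relIndex_bot_left] at this
      exact this
    obtain ⟨a, ha⟩ := IsPGroup.iff_card.1 (PLocal.isPGroup_pCore 3 (D ⧸ W))
    have ha0 : a ≠ 0 := fun h0 => hO (eq_bot_of_card_eq _ (by rw [ha, h0, pow_zero]))
    obtain ⟨T₀⟩ : Nonempty (Sylow 3 U) := inferInstance
    set T := (T₀ : Subgroup U).map U.subtype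
    have hTbot : T ≠ ⊥ := by
      intro h
      rw [Subgroup.map_eq_bot_iff_of_injective _ U.subtype_injective] at h
      have := T₀.pow_dvd_card_of_pow_dvd_card (n := 1)
        (by rw [hUc, ha, pow_one]; exact (dvd_pow_self 3 ha0).mul_left _)
      rw [h, card_bot] at this
      norm_num at this
    haveI : U.Normal := Normal.comap inferInstance _
    have hN := Sylow.normalizer_sup_eq_top T₀
    have hrU : ¬ r ∣ Nat.card U := by
      rw [hUc, ha]
      exact fun h => (hr.dvd_mul.1 h).elim hrW fun h =>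
        hr3 ((Nat.prime_dvd_prime_iff_eq hr Nat.prime_three).1 (hr.dvd_of_dvd_pow h))
    have hUr : r ∣ Nat.card (normalizer (T : Set D)) := by
      have h1 : r ∣ U.index := (hr.dvd_mul.1 (by rwa [card_mul_index U])).resolve_left hrU
      refine h1.trans ?_
      rw [show U.index = U.relIndex (normalizer (T : Set D)) by
        rw [← relIndex_top_right, ← hN, relIndex_sup_right]]
      exact relIndex_dvd_card U _
    obtain ⟨y, hyN, hy⟩ := exists_orderOf_mem hr hUr
    obtain ⟨x, hxT, hx⟩ : ∃ x ∈ T, x ≠ 1 := by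
      by_contra h
      exact hTbot ((eq_bot_iff_forall T).2 fun x hx => not_not.1 fun h1 => h ⟨x, hx, h1⟩)
    have hTp : IsPGroup 3 T := T₀.isPGroup'.map _
    obtain ⟨k, hk⟩ := hTp ⟨x, hxT⟩
    obtain ⟨i, hi⟩ := exists_orderOf_of_isPGroup Nat.prime_three hx
      ⟨k, by simpa using congrArg Subtype.val hk⟩
    exact hno _ y hi hy (hact T y hTp hy hyN _ (pow_mem hxT i)).symm
where
  le_comap_mk' {D : Type u} [Group D] (W : Subgroup D) [W.Normal] (C : Subgroup (D ⧸ W)) :
      W ≤ C.comap (QuotientGroup.mk' W) := fun w hw => by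
    rw [mem_comap, QuotientGroup.mk'_apply, (QuotientGroup.eq_one_iff w).2 hw]
    exact one_mem C

/-- The bound on the odd subgroups. -/
theorem false_of_odd_subgroup {J : Type u} [Group J] [Finite J] [IsSimpleGroup J] (hJ : TwoType J)
    {F : Type} [Field F] [Fintype F] {m : ℕ} (hm : 1 ≤ m) (hq : Fintype.card F = 3 ^ (2 * m + 1))
    {t : J} (ht : orderOf t = 2)
    (e : centralizer ({t} : Set J) ≃*
      Multiplicative (ZMod 2) × Matrix.ProjectiveSpecialLinearGroup (Fin 2) F)
    (hcard : Nat.card J = (3 ^ (2 * m + 1)) ^ 3 * ((3 ^ (2 * m + 1)) ^ 3 + 1) * (3 ^ (2 * m + 1) - 1))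
    (D : Subgroup J) (hD : Odd (Nat.card D))
    (hdvd : Fintype.card F ^ 2 * (Fintype.card F ^ 2 - Fintype.card F + 1) ∣
      Nat.card D * (2 * m + 1)) : False := by
  set f := 2 * m + 1 with hf
  set q := Fintype.card F with hqdef
  rw [← hq] at hcard
  clear_value q f
  have hf3 : 3 ≤ f := by omega
  have hfq : 2 * f < q := by
    rw [hq]
    have : ∀ k : ℕ, 1 ≤ k → 2 * k < 3 ^ k := by
      intro k hk
      induction k, hk using Nat.le_induction with
      | base => norm_num
      | succ k hk ih => rw [pow_succ]; omega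
    exact this f (by omega)
  have h3 : 1 < q := by omega
  obtain ⟨r, hr, hr1, hprim⟩ := Zsigmondy.exists_primitive_prime 3 (6 * f) (by norm_num) (by omega)
    (by omega) (by omega)
  haveI : Fact r.Prime := ⟨hr⟩
  haveI : Fact (Nat.Prime 3) := ⟨Nat.prime_three⟩
  have hr3 : r ≠ 3 := by
    rintro rfl
    have h := dvd_pow_self 3 (show 6 * f ≠ 0 by omega)
    have h2 : 1 ≤ 3 ^ (6 * f) := Nat.one_le_pow _ _ (by norm_num)
    omega
  have hr2 : r ≠ 2 := fun h => hprim 1 one_pos (by omega) (by rw [h]; norm_num)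
  have hr6 : 6 * f < r := by
    have h0 : ((3 : ℕ) : ZMod r) ≠ 0 := fun h =>
      hr3 ((Nat.prime_dvd_prime_iff_eq hr Nat.prime_three).1 ((ZMod.natCast_eq_zero_iff 3 r).1 h))
    by_contra hle
    have h1 := ZMod.pow_card_sub_one_eq_one h0
    have h2 : ((3 ^ (r - 1) - 1 : ℕ) : ZMod r) = 0 := by
      rw [Nat.cast_sub (Nat.one_le_pow _ _ (by norm_num)), Nat.cast_pow, h1, Nat.cast_one, sub_self]
    exact hprim (r - 1) (by have := hr.two_le; omega) (by omega) ((ZMod.natCast_eq_zero_iff _ r).1 h2)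
  have hq2 : q ^ 2 - 1 = (q + 1) * (q - 1) := by rw [← Nat.sq_sub_sq, one_pow]
  have hprim' : ∀ k, 0 < k → k < 6 * f → ¬ r ∣ 3 ^ k - 1 := hprim
  have hrn : ¬ r ∣ q * (q ^ 2 - 1) := by
    intro h
    rcases hr.dvd_mul.1 h with h | h
    · exact hr3 ((Nat.prime_dvd_prime_iff_eq hr Nat.prime_three).1
        (hr.dvd_of_dvd_pow (hq ▸ h : r ∣ 3 ^ f)))
    · rw [hq, ← pow_mul] at h
      exact hprim (f * 2) (by omega) (by omega) h
  have hq_le : q ≤ q ^ 2 := by nlinarith
  have hcube : q ^ 3 + 1 = (q + 1) * (q ^ 2 - q + 1) := by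
    zify [hq_le]; ring
  have hrg : r ∣ q ^ 2 - q + 1 := by
    have h1 : 3 ^ (6 * f) - 1 = (q ^ 3 + 1) * (q ^ 3 - 1) := by
      rw [← Nat.sq_sub_sq, one_pow, hq, ← pow_mul, ← pow_mul]; ring_nf
    rw [h1] at hr1
    rcases hr.dvd_mul.1 hr1 with h | h
    · rw [hcube] at h
      exact (hr.dvd_mul.1 h).resolve_left fun h =>
        hrn (dvd_mul_of_dvd_right (hq2 ▸ dvd_mul_of_dvd_left h _) _)
    · rw [hq, ← pow_mul] at h
      exact absurd h (hprim (f * 3) (by omega) (by omega))
  have hno : ∀ x y : J, orderOf x = 3 → orderOf y = r → Commute x y → False :=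
    fun x y hx hy hxy => not_commute_three hJ hm (by rw [← hqdef, hq, hf]) ht e hr hr2 (hqdef ▸ hrg) (hqdef ▸ hrn) hx hy hxy
  have hJ3 : ∀ T : Subgroup J, IsPGroup 3 T → Nat.card T ≤ 3 ^ (3 * f) := by
    intro T hT
    obtain ⟨k, hk⟩ := IsPGroup.iff_card.1 hT
    have hkd : 3 ^ k ∣ q ^ 3 := by
      have h1 : 3 ^ k ∣ q ^ 3 * ((q ^ 3 + 1) * (q - 1)) := by
        rw [← mul_assoc, ← hcard, ← hk]; exact T.card_subgroup_dvd_card
      refine (Nat.Coprime.pow_left k ((Nat.Prime.coprime_iff_not_dvd Nat.prime_three).2 ?_)).dvd_of_dvd_mul_right h1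
      have h3q : 3 ∣ q := hq ▸ dvd_pow_self 3 (by omega)
      intro h
      rcases Nat.prime_three.dvd_mul.1 h with h | h
      · have : 3 ∣ q ^ 3 := h3q.trans (dvd_pow_self q (by norm_num))
        omega
      · omega
    rw [hk]
    refine le_trans (Nat.le_of_dvd (by positivity) hkd) ?_
    rw [hq, ← pow_mul, mul_comm f 3]
  have hrD : r ∣ Nat.card D := by
    have h := (dvd_mul_of_dvd_right hrg (q ^ 2)).trans hdvd
    exact (hr.dvd_mul.1 h).resolve_right fun h => by
      have := Nat.le_of_dvd (by omega) h; omega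
  set d3 := (Nat.card D).factorization 3 with hd3
  have hqP : q ^ 2 ≤ 3 ^ d3 * f := by
    have h1 : q ^ 2 ∣ Nat.card D * f := (Dvd.intro _ rfl).trans hdvd
    have h2 : Nat.card D = 3 ^ d3 * (Nat.card D / 3 ^ d3) :=
      (Nat.ordProj_mul_ordCompl_eq_self _ 3).symm
    have hcop : Nat.Coprime (q ^ 2) (Nat.card D / 3 ^ d3) := by
      rw [hq, ← pow_mul]
      exact ((Nat.coprime_ordCompl Nat.prime_three Nat.card_pos.ne')).pow_left _
    rw [h2, mul_right_comm] at h1
    exact Nat.le_of_dvd (by positivity) (hcop.dvd_of_dvd_mul_right h1)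
  have h3D : 3 ∣ Nat.card D := by
    by_contra h
    rw [hd3, Nat.factorization_eq_zero_of_not_dvd h, pow_zero, one_mul] at hqP
    nlinarith
  obtain ⟨R, P, hR, hRp, hPp, hPc, hPR⟩ := exists_three_normalizes hD hr h3D hrD hr3
    (fun x y hx hy hxy => hno x y (by rw [orderOf_coe, hx]) (by rw [orderOf_coe, hy])
      (congrArg Subtype.val hxy.eq))
    (fun T y hT hy hyT x hx => by
      have h := commute_of_small (X := D) hr hr3 (n := 3 * f)
        (fun k hk hkn => hprim k hk (by omega)) hT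
        (by rw [← card_map_of_injective D.subtype_injective]; exact hJ3 _ (hT.map _)) hy hyT x hx
      exact h)
  obtain ⟨x₀, hx₀, hx1⟩ : ∃ x ∈ R, x ≠ 1 := by
    by_contra h
    exact hR ((eq_bot_iff_forall R).2 fun x hx => not_not.1 fun h1 => h ⟨x, hx, h1⟩)
  have hfree : ∀ a ∈ P, Commute a x₀ → a = 1 := by
    intro a ha hc
    by_contra ha1
    obtain ⟨k, hk⟩ := hPp ⟨a, ha⟩
    obtain ⟨i, hi⟩ := exists_orderOf_of_isPGroup Nat.prime_three ha1
      ⟨k, by simpa using congrArg Subtype.val hk⟩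
    obtain ⟨l, hl⟩ := hRp ⟨x₀, hx₀⟩
    obtain ⟨j, hj⟩ := exists_orderOf_of_isPGroup hr hx1 ⟨l, by simpa using congrArg Subtype.val hl⟩
    exact hno _ _ (by rw [orderOf_coe, hi]) (by rw [orderOf_coe, hj])
      (congrArg Subtype.val (hc.pow_pow i j).eq)
  have hPR' : Nat.card P ≤ Nat.card R - 1 := by
    let ι : P → {x : R // x ≠ 1} := fun a =>
      ⟨⟨(a : D) * x₀ * (a : D)⁻¹, (mem_normalizer_iff.1 (hPR a.2) x₀).1 hx₀⟩,
        fun h => hx1 (conj_eq_one_iff.1 (congrArg Subtype.val h))⟩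
    have hι : Function.Injective ι := fun a b h => by
      have h' : (a : D) * x₀ * (a : D)⁻¹ = (b : D) * x₀ * (b : D)⁻¹ :=
        congrArg (fun z => ((z.1 : R) : D)) h
      have := hfree ((b : D)⁻¹ * a) (mul_mem (inv_mem b.2) a.2) (by
        show (b : D)⁻¹ * a * x₀ = x₀ * ((b : D)⁻¹ * a)
        calc (b : D)⁻¹ * a * x₀ = (b : D)⁻¹ * ((a : D) * x₀ * (a : D)⁻¹) * a := by group
          _ = x₀ * ((b : D)⁻¹ * a) := by rw [h']; group)
      exact Subtype.ext (inv_mul_eq_one.1 this).symm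
    refine le_trans (Nat.card_le_card_of_injective ι hι) (le_of_eq ?_)
    classical
    haveI := Fintype.ofFinite R
    rw [Nat.card_eq_fintype_card, Fintype.card_subtype_compl, Fintype.card_subtype_eq,
      Nat.card_eq_fintype_card]
  obtain ⟨k, hk⟩ := IsPGroup.iff_card.1 hRp
  have hkg : r ^ k ∣ q ^ 2 - q + 1 := by
    have h1 : r ^ k ∣ (q ^ 2 - q + 1) * (q * q * (q * (q ^ 2 - 1))) := by
      rw [← hk, hq2, show (q ^ 2 - q + 1) * (q * q * (q * ((q + 1) * (q - 1)))) =
        q ^ 3 * ((q + 1) * (q ^ 2 - q + 1)) * (q - 1) by ring, ← hcube, ← hcard]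
      exact R.card_subgroup_dvd_card.trans D.card_subgroup_dvd_card
    refine (Nat.Coprime.pow_left k ((Nat.Prime.coprime_iff_not_dvd hr).2 fun h => ?_)).dvd_of_dvd_mul_right h1
    rcases hr.dvd_mul.1 h with h | h
    · exact hrn (dvd_mul_of_dvd_left ((hr.dvd_mul.1 h).elim id id) _)
    · exact hrn h
  -- `q² - q + 1 = (q + s + 1) (q - s + 1)` with `s = √(3q)`
  set s := 3 ^ (m + 1) with hs
  have hs2 : s * s = 3 * q := by rw [hq, hs, ← pow_add, ← pow_succ']; congr 1; omega
  have hsq : s ≤ q := by rw [hq]; exact Nat.pow_le_pow_right (by norm_num) (by omega)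
  clear_value s
  have hfac : q ^ 2 - q + 1 = (q + s + 1) * (q - s + 1) := by
    zify [hq_le, hsq]
    have : (s : ℤ) * s = 3 * q := by exact_mod_cast hs2
    linear_combination this
  have hbound : r ^ k ≤ q + s + 1 := by
    rw [hfac] at hkg
    by_cases hb : r ∣ q - s + 1
    · have ha : ¬ r ∣ q + s + 1 := fun ha => by
        have h := Nat.dvd_sub ha hb
        rw [show q + s + 1 - (q - s + 1) = 2 * s by omega] at h
        rcases hr.dvd_mul.1 h with h | h
        · exact hr2 ((Nat.prime_dvd_prime_iff_eq hr Nat.prime_two).1 h)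
        · exact hr3 ((Nat.prime_dvd_prime_iff_eq hr Nat.prime_three).1 (hr.dvd_of_dvd_pow (hs ▸ h)))
      have := Nat.le_of_dvd (by omega) ((Nat.Coprime.pow_left k
        ((Nat.Prime.coprime_iff_not_dvd hr).2 ha)).dvd_of_dvd_mul_left hkg)
      omega
    · exact Nat.le_of_dvd (by omega) ((Nat.Coprime.pow_left k
        ((Nat.Prime.coprime_iff_not_dvd hr).2 hb)).dvd_of_dvd_mul_right hkg)
  rw [hk] at hPR'
  rw [hPc, ← hd3] at hPR'
  have : 3 ^ d3 ≤ 2 * q := by omega
  have := Nat.mul_le_mul_right f this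
  nlinarith

end CfsgLib.Walter
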