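import Cfsg.Agent.Walter.SE.IndexBound
import Cfsg.Agent.Walter.SE.OddSubgroup
import Cfsg.Agent.SEmbed.Cosets
import Cfsg.Agent.S1644
import Cfsg.Agent.S0253
import Cfsg.Agent.J1Closure.Facts

/-!
# Walter, rank three: a minimal counterexample has no strongly embedded subgroup

The top of a strongly embedded `H` is a Janko–Ree group `J`; an odd subgroup of `H` is transitive on
the involutions, so their number divides the order of an odd subgroup of `J` times `f`.
-/

set_option autoImplicit false
set_option linter.style.haveILetI false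
set_option linter.unusedSectionVars false

open Subgroup

namespace CfsgLib.Walter

universe u

/-- An odd subgroup of `J` cannot be transitive, up to field automorphisms, on the involutions. -/
theorem false_of_transitive_odd {Q : Type u} [Group Q] [Finite Q] (hQ : TwoType Q) (J : Subgroup Q)
    [J.Normal] (hC : centralizer (J : Set Q) = ⊥) (hodd : Odd J.index) (hJR : IsJR J)
    (hsub : ∀ X : Subgroup Q, ∃ (Y : Type u) (_ : Group Y) (_ : Finite Y) (f : Y →* X),
      Function.Surjective f ∧ Odd (Nat.card f.ker) ∧ Known Y)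
    {t : Q} (ht : orderOf t = 2) (htJ : t ∈ J) (D : Subgroup Q) (hD : Odd (Nat.card D))
    (htrans : ∀ q : Q, ∃ d ∈ D, d * t * d⁻¹ = q * t * q⁻¹) : False := by
  classical
  haveI := hJR.1
  set tJ : J := ⟨t, htJ⟩
  have htJ2 : orderOf tJ = 2 := by rw [← orderOf_coe]; exact ht
  have hTJ := hQ.subgroup J
  obtain ⟨F, iF, fF, h8, h5, ⟨e⟩⟩ := hJR.2 tJ htJ2
  set C := centralizer ({t} : Set Q)
  -- the number of involutions divides the order of `D`
  have hN : C.index ∣ Nat.card D := by
    have h1 : C.index = C.relIndex D := by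
      let φ : D ⧸ C.subgroupOf D → Q ⧸ C := Quotient.map' (fun d : D => (d : Q)) fun a b h => by
        rw [QuotientGroup.leftRel_apply] at h ⊢
        simpa [mem_subgroupOf] using h
      have hφ : Function.Bijective φ := by
        refine ⟨?_, fun z => ?_⟩
        · rintro ⟨a⟩ ⟨b⟩ h
          refine QuotientGroup.eq.2 ?_
          rw [mem_subgroupOf]
          push_cast
          exact QuotientGroup.eq.1 h
        · obtain ⟨q, rfl⟩ := QuotientGroup.mk_surjective z
          obtain ⟨d, hd, hdq⟩ := htrans q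
          refine ⟨((⟨d, hd⟩ : D) : D ⧸ C.subgroupOf D), QuotientGroup.eq.2 ?_⟩
          refine mem_centralizer_singleton_iff.2 (mul_inv_eq_iff_eq_mul.1 ?_)
          calc d⁻¹ * q * t * (d⁻¹ * q)⁻¹ = d⁻¹ * (q * t * q⁻¹) * d := by group
            _ = t := by rw [← hdq]; group
      rw [index_eq_card, relIndex, index_eq_card, Nat.card_eq_of_bijective φ hφ]
    rw [h1]
    exact relIndex_dvd_card C D
  -- the part of `D` in `J`
  set D₀ := D.subgroupOf J
  have hD₀ : Nat.card D₀ * J.relIndex D = Nat.card D := by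
    have h : Nat.card D₀ = Nat.card (J.subgroupOf D) := by
      rw [← card_map_of_injective J.subtype_injective,
        ← card_map_of_injective (K := J.subgroupOf D) D.subtype_injective, subgroupOf_map_subtype,
        subgroupOf_map_subtype, inf_comm]
    rw [h]; exact (J.subgroupOf D).card_mul_index
  have hD₀odd : Odd (Nat.card D₀) := hD.of_dvd_nat (Dvd.intro _ hD₀)
  have hdvd : ∀ f, J.index ∣ f → C.index ∣ Nat.card D₀ * f := fun f hf => hN.trans (by
    rw [← hD₀]
    exact mul_dvd_mul_left _ ((relIndex_dvd_index_of_normal J D).trans hf))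
  rcases Cfsg.Agent.S0343.result (twoType_hab hTJ) (by omega) tJ htJ2 ⟨e⟩ with
    ⟨m, hm, hq, hcard⟩ | ⟨hq, hJ1⟩
  · haveI : Fact (Nat.Prime 3) := ⟨Nat.prime_three⟩
    obtain ⟨hf, hidx⟩ := index_dvd_of_rigid hQ J hC hodd hJR hsub ht htJ h8 h5 e hq (by omega)
    set q := Fintype.card F with hqdef
    have hqo : Odd q := by rw [Nat.odd_iff]; omega
    rw [Nat.card_congr e.toEquiv, Nat.card_prod, Nat.card_congr Multiplicative.toAdd, Nat.card_zmod,
      Linear.card_PSL_two_odd hqo, ← hqdef, hcard, ← hq] at hidx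
    have hq_le : q ≤ q ^ 2 := by nlinarith
    have hq1 : 1 ≤ q ^ 2 := by nlinarith
    have hcube : q ^ 3 * (q ^ 3 + 1) * (q - 1) =
        q ^ 2 * (q ^ 2 - q + 1) * (q * (q ^ 2 - 1)) := by
      zify [hq_le, hq1, show 1 ≤ q by omega]; ring
    have hCidx : C.index = q ^ 2 * (q ^ 2 - q + 1) :=
      Nat.eq_of_mul_eq_mul_right (Nat.mul_pos (by omega) (Nat.sub_pos_of_lt (by nlinarith)))
        (hidx.trans hcube)
    exact false_of_odd_subgroup hTJ hm (hqdef ▸ hq) htJ2 e hcard D₀ hD₀odd
      (hqdef ▸ hCidx ▸ hdvd _ hf)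
  · have hq5 : Fintype.card F = 5 := by omega
    haveI : Fact (Nat.Prime 5) := ⟨by norm_num⟩
    obtain ⟨hf, hidx⟩ := index_dvd_of_rigid hQ J hC hodd hJR hsub ht htJ h8 h5 e
      (p := 5) (f := 1) (by rw [hq5, pow_one]) le_rfl
    have hP := Linear.card_PSL_two_odd (F := F) (by rw [hq5]; decide)
    rw [hq5] at hP
    rw [Nat.card_congr e.toEquiv, Nat.card_prod, Nat.card_congr Multiplicative.toAdd, Nat.card_zmod,
      hP, hJ1.2] at hidx
    have hC' : C.index = 1463 := by
      change C.index * _ = _ at hidx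
      norm_num at hidx ⊢; omega
    obtain ⟨eA⟩ := Cfsg.Agent.S0253.result hq5
    obtain ⟨S⟩ : Nonempty (Sylow 2 J) := inferInstance
    have hiso : Cfsg.Spor.IsoJ1 J := Cfsg.Agent.S1644.result S
      ⟨⟨fun a b => Subtype.ext (hTJ.comm _ S.isPGroup' a.2 b.2).eq⟩⟩
      ((hJR.facts hTJ htJ2).2 S) tJ htJ2 (e.trans ((MulEquiv.refl _).prodCongr eA))
    have h76 := (J1Closure.odd_subgroup hiso D₀ hD₀odd.not_two_dvd_nat).1
    have := hdvd 1 hf
    rw [hC', mul_one] at this
    have := Nat.le_of_dvd Nat.card_pos this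
    omega

namespace Minimal

variable {G : Type u} [Group G] [Finite G]

/-- A minimal counterexample with nonsolvable involution centralizers has no strongly embedded
subgroup. -/
theorem not_stronglyEmbedded (hG : Minimal G)
    (hnsol : ∀ a : G, orderOf a = 2 → ¬ Group.IsSolvable (centralizer ({a} : Set G)))
    {H : Subgroup G} (hH : Cfsg.IsStronglyEmbedded H) : False := by
  classical
  haveI : Fact (Nat.Prime 2) := ⟨Nat.prime_two⟩
  have hse := (Small.isStronglyEmbedded_iff hH.1 hH.2.1).1 hH
  obtain ⟨t, htH, ht⟩ := Small.exists_invol_mem hH.2.1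
  have hcent : centralizer ({t} : Set G) ≤ H := fun g hg => hse t htH ht g (by
    rw [mul_assoc, show t * g = g * t from (mem_centralizer_singleton_iff.1 hg).symm,
      inv_mul_cancel_left]
    exact htH)
  obtain ⟨S, htS, hSt⟩ := hG.exists_sylow ht
  have hSH : (S : Subgroup G) ≤ H := fun s hs =>
    hcent (mem_centralizer_singleton_iff.2 (hSt s hs))
  set O := Cfsg.oddCore H with hOdef
  set π := QuotientGroup.mk' O with hπdef
  have hπs : Function.Surjective π := QuotientGroup.mk'_surjective _
  have hπk : ∀ x : H, π x = 1 → Odd (orderOf x) := fun x hx =>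
    (Inv54.odd_card_oddCore (G := H)).of_dvd_nat
      (O.orderOf_dvd_natCard ((QuotientGroup.eq_one_iff x).1 hx))
  have hQ : TwoType (H ⧸ O) := (hG.twoType.subgroup H).quotient_oddCore
  set SH : Subgroup H := (S : Subgroup G).subgroupOf H
  have hinj : ∀ a ∈ SH, π a = 1 → a = 1 := fun a ha h => by
    obtain ⟨k, hk⟩ := hπk a h
    have h1 := pow_orderOf_eq_one a
    rwa [hk, pow_succ, pow_mul, pow_two, show a * a = 1 from Subtype.ext (hG.sq S _ (mem_subgroupOf.1 ha)),
      one_pow, one_mul] at h1
  have hS8 : Nat.card (SH.map π) = 8 := by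
    let q : SH → SH.map π := fun s => ⟨π s, mem_map_of_mem π s.2⟩
    rw [← hG.card S, ← Nat.card_congr (subgroupOfEquivOfLe hSH).toEquiv]
    refine (Nat.card_eq_of_bijective q ⟨fun a b h => ?_, ?_⟩).symm
    · have h' : π a = π b := congrArg Subtype.val h
      exact Subtype.ext (mul_inv_eq_one.1 (hinj _ (mul_mem a.2 (inv_mem b.2))
        (by rw [map_mul, map_inv, h', mul_inv_cancel])))
    · rintro ⟨_, s, hs, rfl⟩; exact ⟨⟨s, hs⟩, rfl⟩
  set t' : H := ⟨t, htH⟩
  have htSH : t' ∈ SH := mem_subgroupOf.2 htS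
  have ht' : orderOf t' = 2 := by rw [← orderOf_coe]; exact ht
  have htQ : orderOf (π t') = 2 := by
    refine Small.orderOf_eq_two_iff_sq.2 ⟨fun h => ?_, ?_⟩
    · exact Small.ne_one_of_orderOf_two ht' (hinj _ htSH h)
    · rw [← map_mul, Small.mul_self_of_orderOf_two ht', map_one]
  -- all involutions of `H` are conjugate in `H`
  have hfus : ∀ s : H, orderOf (s : G) = 2 → ∃ h : H, h * t' * h⁻¹ = s := fun s hs => by
    obtain ⟨g, hg⟩ := isConj_iff.1 (hG.isConj ht hs)
    have hgH : g ∈ H := hse s s.2 hs g (by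
      rw [← hg, show g⁻¹ * (g * t * g⁻¹) * g = t by group]
      exact htH)
    exact ⟨⟨g, hgH⟩, Subtype.ext hg⟩
  have hHsol : ¬ Group.IsSolvable H := fun h => hnsol t ht
    (Group.isSolvable_of_isSolvable_injective (f := Subgroup.inclusion hcent)
      (Subgroup.inclusion_injective hcent))
  have hKn : Known ↥H := hG.known H hH.1
  rcases hKn with hsol | ⟨L, hLn, hL, -, -⟩ | ⟨L, hLn, hLJ, hLC, hLo⟩
  · refine hHsol ?_
    haveI := hsol
    haveI : Group.IsSolvable O := Cfsg.Agent.S0205.result (Inv54.odd_card_oddCore (G := H))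
    exact Group.isSolvable_of_ker_le_range O.subtype π (by rw [QuotientGroup.ker_mk', range_subtype])
  · -- the image of `S` would lie in `L ≅ PSL₂(q)`
    haveI := hLn
    obtain ⟨w, hw⟩ := exists_prime_orderOf_dvd_card' (G := L) 2
      ((show (2 : ℕ) ∣ 4 by norm_num).trans hL.four_dvd)
    let W₀ : Sylow 2 H := S.subtype hSH
    obtain ⟨W, hW⟩ := (IsPGroup.of_card (n := 1) (by rw [Nat.card_zpowers, orderOf_coe, hw, pow_one]) :
      IsPGroup 2 (zpowers (w : H ⧸ O))).exists_le_sylow
    obtain ⟨g, hg⟩ := MulAction.exists_smul_eq (H ⧸ O) W (W₀.mapSurjective hπs)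
    have hgw : g * (w : H ⧸ O) * g⁻¹ ∈ (g • W : Sylow 2 (H ⧸ O)) := ⟨_, hW (mem_zpowers _), rfl⟩
    rw [hg] at hgw
    obtain ⟨s, hs, hsw⟩ := hgw
    have hs1 : (s : G) ≠ 1 := fun h => by
      rw [show s = 1 from Subtype.ext h, map_one, eq_comm, conj_eq_one_iff] at hsw
      rw [show w = 1 from Subtype.ext hsw, orderOf_one] at hw
      omega
    obtain ⟨h₀, hh₀⟩ := hfus s (hG.orderOf_sylow S hs hs1)
    have hsL : π t' ∈ L := by
      have h1 : π s ∈ L := hsw ▸ hLn.conj_mem _ w.2 g
      rw [show t' = h₀⁻¹ * s * h₀ by rw [← hh₀]; group, map_mul, map_mul, map_inv]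
      simpa using hLn.conj_mem _ h1 (π h₀)⁻¹
    have hle : SH.map π ≤ L := by
      rintro _ ⟨a, ha, rfl⟩
      by_cases ha1 : (a : G) = 1
      · rw [show a = 1 from Subtype.ext ha1, map_one]; exact one_mem L
      obtain ⟨h, hh⟩ := hfus a (hG.orderOf_sylow S (mem_subgroupOf.1 ha) ha1)
      rw [← hh, map_mul, map_mul, map_inv]
      exact hLn.conj_mem _ hsL _
    exact hL.not_eight_dvd (hS8 ▸ card_dvd_of_le hle)
  · haveI := hLn
    have hA : Odd (Nat.card ((H ⧸ O) ⧸ L)) := by rw [← index_eq_card]; exact hLo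
    have htL : π t' ∈ L := by
      refine (QuotientGroup.eq_one_iff _).1 ?_
      have h2 : (QuotientGroup.mk' L (π t')) * QuotientGroup.mk' L (π t') = 1 := by
        rw [← map_mul, Small.mul_self_of_orderOf_two htQ, map_one]
      obtain ⟨k, hk⟩ := hA.of_dvd_nat (orderOf_dvd_natCard (QuotientGroup.mk' L (π t')))
      have h1 := pow_orderOf_eq_one (QuotientGroup.mk' L (π t'))
      rwa [hk, pow_succ, pow_mul, pow_two, h2, one_pow, one_mul] at h1
    rcases hLJ with h8L | hLJR
    · -- the centralizer of `t` would be solvable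
      obtain ⟨F', iF', fF', h8', ⟨eL⟩⟩ := h8L
      haveI : CharP F' 2 := by
        obtain ⟨p, hp⟩ := CharP.exists F'
        haveI := hp
        obtain ⟨n, hpp, hn'⟩ := FiniteField.card F' p
        have h2 : p ∣ 2 ^ 3 := by
          rw [show (2 : ℕ) ^ 3 = Fintype.card F' by rw [h8']; norm_num, hn']
          exact dvd_pow_self p n.2.ne'
        exact (Nat.prime_dvd_prime_iff_eq hpp Nat.prime_two).1 (hpp.dvd_of_dvd_pow h2) ▸ hp
      refine hnsol t ht ?_
      let η : centralizer ({t} : Set G) →* H ⧸ O := π.comp (Subgroup.inclusion hcent)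
      let ψ := (QuotientGroup.mk' L).comp η
      have hker : Group.IsSolvable η.ker := by
        refine Cfsg.Agent.S0205.result (Nat.not_even_iff_odd.1 fun h => ?_)
        obtain ⟨x, hx⟩ := exists_prime_orderOf_dvd_card' (G := η.ker) 2 (even_iff_two_dvd.1 h)
        have := hπk _ (MonoidHom.mem_ker.1 x.2)
        rw [← orderOf_coe, show ((Subgroup.inclusion hcent (x : centralizer ({t} : Set G)) : H) : G) =
          ((x : centralizer ({t} : Set G)) : G) from rfl, orderOf_coe, orderOf_coe, hx] at this
        exact absurd this (by decide)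
      let χ : ψ.ker →* H ⧸ O := η.comp ψ.ker.subtype
      have hsq : ∀ z : χ.range, z * z = 1 := by
        rintro ⟨_, x, rfl⟩
        have hxL : η x ∈ L := (QuotientGroup.eq_one_iff _).1 (MonoidHom.mem_ker.1 x.2)
        have hc : η x * π t' = π t' * η x := by
          show π _ * π t' = π t' * π _
          rw [← map_mul, ← map_mul]
          exact congrArg π (Subtype.ext (mem_centralizer_singleton_iff.1
            (x : centralizer ({t} : Set G)).2))
        have h := AbelSolvCent.psl2_centralizer_invol_sq (u := eL ⟨π t', htL⟩) (d := eL ⟨η x, hxL⟩)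
          (by rw [← map_mul, ← map_one eL]; exact congrArg eL (Subtype.ext (Small.mul_self_of_orderOf_two htQ)))
          (fun h => Small.ne_one_of_orderOf_two htQ
            (congrArg Subtype.val (eL.injective (h.trans (map_one eL).symm))))
          (by rw [← map_mul, ← map_mul]; exact congrArg eL (Subtype.ext hc))
        rw [← map_mul, ← map_one eL] at h
        exact Subtype.ext (congrArg Subtype.val (eL.injective h) :)
      haveI : Group.IsSolvable χ.range := Group.isSolvable_of_comm fun a b =>
        calc a * b = a * (a * b * (a * b)) * b := by rw [hsq, mul_one]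
          _ = a * a * (b * a) * (b * b) := by group
          _ = b * a := by rw [hsq, hsq, one_mul, mul_one]
      haveI := hker
      have hψk : Group.IsSolvable ψ.ker := by
        have hj : ∀ x : χ.ker, ((x : ψ.ker) : centralizer ({t} : Set G)) ∈ η.ker := fun x => x.2
        haveI : Group.IsSolvable χ.ker := Group.isSolvable_of_isSolvable_injective
          (f := ((ψ.ker.subtype.comp χ.ker.subtype).codRestrict η.ker hj))
          (fun a b h => Subtype.ext (Subtype.ext
            (congrArg (fun z : η.ker => (z : centralizer ({t} : Set G))) h)))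
        exact Group.isSolvable_of_ker_le_range χ.ker.subtype χ.rangeRestrict
          (by rw [MonoidHom.ker_rangeRestrict, range_subtype])
      haveI := hψk
      haveI : Group.IsSolvable ((H ⧸ O) ⧸ L) := Cfsg.Agent.S0205.result hA
      exact Group.isSolvable_of_ker_le_range ψ.ker.subtype ψ (by rw [range_subtype])
    -- the Janko–Ree case
    have hsub : ∀ X : Subgroup (H ⧸ O), ∃ (Y : Type u) (_ : Group Y) (_ : Finite Y) (f : Y →* X),
        Function.Surjective f ∧ Odd (Nat.card f.ker) ∧ Known Y := by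
      intro X
      set Y' := (X.comap π).map H.subtype
      have hY' : Y' ≠ ⊤ := fun h => hH.1 (eq_top_iff.2 (h ▸ map_subtype_le _))
      refine ⟨Y', inferInstance, inferInstance, (π.subgroupComap X).comp
        ((X.comap π).equivMapOfInjective H.subtype H.subtype_injective).symm.toMonoidHom,
        (π.subgroupComap_surjective_of_surjective X hπs).comp (MulEquiv.surjective _), ?_,
        hG.known Y' hY'⟩
      refine Nat.not_even_iff_odd.1 fun h => ?_
      obtain ⟨y, hy⟩ := exists_prime_orderOf_dvd_card' 2 (even_iff_two_dvd.1 h)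
      set x := ((X.comap π).equivMapOfInjective H.subtype H.subtype_injective).symm (y : Y') with hxdef
      have hx : π (x : H) = 1 := congrArg (fun z : X => (z : H ⧸ O)) (MonoidHom.mem_ker.1 y.2)
      have := hπk _ hx
      rw [orderOf_coe, hxdef, MulEquiv.orderOf_eq, orderOf_coe, hy] at this
      exact absurd this (by decide)
    obtain ⟨u, hu⟩ : ∃ u : G, u ∉ H := by
      by_contra h
      push Not at h
      exact hH.1 (eq_top_iff.2 fun g _ => h g)
    have hU := SEmbed.uniqueFix hH
    have hne : ((1 : G) : G ⧸ H) ≠ (u : G ⧸ H) := fun h =>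
      hu (by simpa using QuotientGroup.eq.1 h)
    set D₀ := SEmbed.pairStab G ((1 : G) : G ⧸ H) (u : G ⧸ H)
    have hD₀H : D₀ ≤ H := by
      rw [show D₀ = _ from SEmbed.pairStab_one H u]
      exact inf_le_left
    refine false_of_transitive_odd hQ L hLC hLo hLJR hsub htQ htL ((D₀.subgroupOf H).map π) ?_ ?_
    · refine Odd.of_dvd_nat ?_ (card_map_dvd _ _)
      rw [Nat.card_congr (subgroupOfEquivOfLe hD₀H).toEquiv]
      exact SEmbed.odd_pairStab hU hne
    · intro q
      obtain ⟨h, rfl⟩ := hπs q
      obtain ⟨d, hd, hdh⟩ := SEmbed.exists_conj_fix hU hne (s := t) (t := ((h * t' * h⁻¹ : H) : G))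
        (by rw [SEmbed.invMap_one]; exact ⟨ht, htH⟩)
        (by
          rw [SEmbed.invMap_one]
          exact ⟨by push_cast; rw [Small.orderOf_conj_eq]; exact ht, SetLike.coe_mem _⟩)
      refine ⟨π ⟨d, hD₀H hd⟩, mem_map_of_mem π (mem_subgroupOf.2 hd), ?_⟩
      simp only [← map_inv, ← map_mul]
      exact congrArg π (Subtype.ext hdh)

end Minimal

end CfsgLib.Walter
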