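import Cfsg.Agent.Walter.SE.Fusion
import Cfsg.Agent.Walter.SE.ReeChars
import Cfsg.Agent.Small.StronglyEmbedded

/-!
# Walter, strong embedding: odd automorphisms fixing an involution centralizer of a Janko–Ree group

An element `φ` of odd order centralizing `C_J(t)` centralizes the normalizer of a Sylow subgroup
containing `t`; so `X = C_J(φ)` has one class of involutions, its top is a Janko–Ree group with the
same field, hence of the same order as `J`, and `φ` centralizes `J`.
-/

set_option autoImplicit false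
set_option linter.style.haveILetI false
set_option linter.unusedSectionVars false

open Subgroup

namespace CfsgLib.Walter

universe u

variable {Q : Type u} [Group Q] [Finite Q]

/-- An element of odd order centralizing a Sylow 2-subgroup of a Janko–Ree group is trivial. -/
theorem IsJR.eq_one_of_commute_sylow {J : Type u} [Group J] [Finite J] (hJR : IsJR J)
    (hJ : TwoType J) {t : J} (ht : orderOf t = 2) (S : Sylow 2 J) (htS : t ∈ (S : Subgroup J))
    {c : J} (hc : Odd (orderOf c)) (hcS : ∀ s ∈ (S : Subgroup J), Commute c s) : c = 1 := by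
  classical
  obtain ⟨F, iF, fF, h8, h5, ⟨e⟩⟩ := hJR.2 t ht
  have hS8 := (hJR.facts hJ ht).2 S
  have hSC : (S : Subgroup J) ≤ centralizer ({t} : Set J) := fun s hs =>
    mem_centralizer_singleton_iff.2 (hJ.comm _ S.isPGroup' hs htS).eq
  let g : centralizer ({t} : Set J) →* Matrix.ProjectiveSpecialLinearGroup (Fin 2) F :=
    (MonoidHom.snd _ _).comp e.toMonoidHom
  set W := ((S : Subgroup J).subgroupOf (centralizer ({t} : Set J))).map g
  have hW : 4 ≤ Nat.card W := by
    let ι : ↥(S : Subgroup J) → Multiplicative (ZMod 2) × W := fun s =>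
      ((e ⟨s, hSC s.2⟩).1, ⟨g ⟨s, hSC s.2⟩, mem_map_of_mem g (mem_subgroupOf.2 s.2)⟩)
    have hι : Function.Injective ι := fun a b h => by
      have h' : e ⟨a, hSC a.2⟩ = e ⟨b, hSC b.2⟩ :=
        Prod.ext (congrArg (fun z => z.1) h) (congrArg (fun z => (z.2 : Matrix.ProjectiveSpecialLinearGroup (Fin 2) F)) h)
      exact Subtype.ext (congrArg (fun z : centralizer ({t} : Set J) => (z : J)) (e.injective h'))
    have := Nat.card_le_card_of_injective ι hι
    rw [hS8, Nat.card_prod, Nat.card_congr Multiplicative.toAdd, Nat.card_zmod] at this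
    omega
  haveI := Fintype.ofFinite W
  rw [Nat.card_eq_fintype_card] at hW
  obtain ⟨a, ha⟩ := Fintype.exists_ne_of_one_lt_card (by omega) (1 : W)
  obtain ⟨b, hb⟩ : ∃ b : W, b ∉ ({1, a} : Finset W) :=
    (Finset.exists_mem_notMem_of_card_lt_card (t := Finset.univ)
      (by rw [Finset.card_univ]; exact lt_of_le_of_lt Finset.card_le_two (by omega))).imp
      fun b hb => hb.2
  simp only [Finset.mem_insert, Finset.mem_singleton, not_or] at hb
  have hct : c ∈ centralizer ({t} : Set J) := mem_centralizer_singleton_iff.2 (hcS t htS).eq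
  have hsq : ∀ w : W, orderOf (w : Matrix.ProjectiveSpecialLinearGroup (Fin 2) F) = 2 ↔ w ≠ 1 := fun w => by
    refine ⟨fun h e => by rw [e] at h; simp at h, fun h => Small.orderOf_eq_two_iff_sq.2
      ⟨fun e => h (Subtype.ext e), ?_⟩⟩
    obtain ⟨_, s, hs, rfl⟩ := w
    rw [← map_mul, show s * s = 1 from Subtype.ext ((hJ _ S.isPGroup').1 _ (mem_subgroupOf.1 hs)), map_one]
  have hcomm : ∀ w : W, g ⟨c, hct⟩ * w = w * g ⟨c, hct⟩ := fun w => by
    obtain ⟨_, s, hs, rfl⟩ := w
    rw [← map_mul, ← map_mul, show (⟨c, hct⟩ : centralizer ({t} : Set J)) * s = s * ⟨c, hct⟩ from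
      Subtype.ext (hcS _ (mem_subgroupOf.1 hs)).eq]
  have ho : Odd (orderOf (g ⟨c, hct⟩)) :=
    hc.of_dvd_nat ((orderOf_map_dvd g _).trans (by rw [Subgroup.orderOf_mk]))
  have h2 := eq_one_of_commute_four (L := Matrix.ProjectiveSpecialLinearGroup (Fin 2) F)
    ⟨F, iF, fF, h8, h5, ⟨MulEquiv.refl _⟩⟩ ((hsq a).2 ha) ((hsq b).2 hb.1)
    (fun e => hb.2 (Subtype.ext e).symm)
    (congrArg Subtype.val (show a * b = b * a from by
      obtain ⟨_, s, hs, rfl⟩ := a
      obtain ⟨_, s', hs', rfl⟩ := b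
      refine Subtype.ext ?_
      show g s * g s' = g s' * g s
      rw [← map_mul, ← map_mul, show s * s' = s' * s from Subtype.ext
        (hJ.comm _ S.isPGroup' (mem_subgroupOf.1 hs) (mem_subgroupOf.1 hs')).eq]))
    ho (hcomm a) (hcomm b)
  set w := e ⟨c, hct⟩ with hw
  have hw2 : w * w = 1 := by
    refine Prod.ext ?_ ?_
    · rw [Prod.fst_mul, Prod.fst_one]
      exact (by decide : ∀ a : Multiplicative (ZMod 2), a * a = 1) w.1
    · show g ⟨c, hct⟩ * g ⟨c, hct⟩ = 1
      rw [h2, one_mul]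
  rw [hw, ← map_mul, ← map_one e] at hw2
  have hc2 : c * c = 1 := congrArg Subtype.val (e.injective hw2)
  obtain ⟨k, hk⟩ := hc
  have h1 := pow_orderOf_eq_one c
  rwa [hk, pow_succ, pow_mul, pow_two, hc2, one_pow, one_mul] at h1

/-- The core of the argument. -/
theorem eq_one_of_fixes (hQ : TwoType Q) (J : Subgroup Q) [J.Normal]
    (hC : centralizer (J : Set Q) = ⊥) (hJR : IsJR J)
    (hsub : ∀ X : Subgroup Q, ∃ (Y : Type u) (_ : Group Y) (_ : Finite Y) (f : Y →* X),
      Function.Surjective f ∧ Odd (Nat.card f.ker) ∧ Known Y)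
    {t : Q} (ht : orderOf t = 2) (htJ : t ∈ J) {φ : Q} (hφ : Odd (orderOf φ))
    (hfix : ∀ x ∈ J, Commute x t → Commute φ x) : φ = 1 := by
  classical
  haveI : Fact (Nat.Prime 2) := ⟨Nat.prime_two⟩
  haveI := hJR.1
  set tJ : J := ⟨t, htJ⟩
  have htJ2 : orderOf tJ = 2 := by rw [← orderOf_coe]; exact ht
  have hTJ : TwoType J := hQ.subgroup J
  obtain ⟨hnc, hS8⟩ := hJR.facts hTJ htJ2
  obtain ⟨F, iF, fF, h8, h5, ⟨e⟩⟩ := hJR.2 tJ htJ2
  obtain ⟨S, hS⟩ := (IsPGroup.of_card (n := 1) (by rw [Nat.card_zpowers, htJ2, pow_one]) :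
    IsPGroup 2 (zpowers tJ)).exists_le_sylow
  have htS : tJ ∈ (S : Subgroup J) := hS (mem_zpowers _)
  have hfixS : ∀ s ∈ (S : Subgroup J), Commute φ (s : Q) := fun s hs =>
    hfix s s.2 (congrArg Subtype.val (hTJ.comm _ S.isPGroup' hs htS).eq)
  -- the normalizer of `S` is centralized
  have hfixN : ∀ n ∈ normalizer ((S : Subgroup J) : Set J), Commute φ (n : Q) := by
    intro n hn
    set c : J := ⟨φ * n * φ⁻¹, ‹J.Normal›.conj_mem _ n.2 φ⟩ * n⁻¹ with hcdef
    have hcS : ∀ s ∈ (S : Subgroup J), Commute c s := by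
      intro s hs
      have hs' : n⁻¹ * s * n ∈ (S : Subgroup J) := by
        simpa using (mem_normalizer_iff.1 (inv_mem hn) s).1 hs
      have h1 := (hfixS _ hs').eq
      have h2 := (hfixS _ hs).eq
      refine mul_inv_eq_iff_eq_mul.1 (Subtype.ext ?_)
      push_cast [hcdef] at h1 ⊢
      calc φ * n * φ⁻¹ * (n : Q)⁻¹ * s * (φ * n * φ⁻¹ * (n : Q)⁻¹)⁻¹
          = φ * (n : Q) * φ⁻¹ * ((n : Q)⁻¹ * s * n) * φ * (n : Q)⁻¹ * φ⁻¹ := by group
        _ = φ * (n : Q) * φ⁻¹ * (((n : Q)⁻¹ * s * n) * φ) * (n : Q)⁻¹ * φ⁻¹ := by group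
        _ = φ * (n : Q) * φ⁻¹ * (φ * ((n : Q)⁻¹ * s * n)) * (n : Q)⁻¹ * φ⁻¹ := by rw [h1]
        _ = φ * (s : Q) * φ⁻¹ := by group
        _ = s := by rw [h2, mul_inv_cancel_right]
    have hφc : Commute φ (c : Q) := hfix _ c.2 (congrArg Subtype.val (hcS tJ htS).eq)
    have hpow : ∀ k : ℕ, φ ^ k * n * (φ ^ k)⁻¹ = (c : Q) ^ k * n := by
      intro k
      induction k with
      | zero => simp
      | succ k ih =>
        rw [pow_succ', show φ * φ ^ k * (n : Q) * (φ * φ ^ k)⁻¹ =
          φ * (φ ^ k * n * (φ ^ k)⁻¹) * φ⁻¹ by group, ih,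
          show φ * ((c : Q) ^ k * n) * φ⁻¹ = φ * (c : Q) ^ k * (n * φ⁻¹) by group,
          (hφc.pow_right k).eq, pow_succ, hcdef]
        push_cast
        group
    have hc0 : (c : Q) ^ orderOf φ = 1 := by
      have := hpow (orderOf φ)
      rwa [pow_orderOf_eq_one, one_mul, inv_one, mul_one, right_eq_mul] at this
    have hc1 : c = 1 := hJR.eq_one_of_commute_sylow hTJ htJ2 S htS
      (by rw [← orderOf_coe]; exact hφ.of_dvd_nat (orderOf_dvd_of_pow_eq_one hc0)) hcS
    have := congrArg Subtype.val hc1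
    rw [hcdef] at this
    push_cast at this
    exact mul_inv_eq_iff_eq_mul.1 (mul_inv_eq_one.1 this)
  set X : Subgroup Q := J ⊓ centralizer ({φ} : Set Q) with hXdef
  have hmemX : ∀ x : J, Commute φ (x : Q) → (x : Q) ∈ X := fun x hx =>
    mem_inf.2 ⟨x.2, mem_centralizer_singleton_iff.2 hx.eq.symm⟩
  obtain ⟨Y, iY, fY, f, hf, hfk, hK⟩ := hsub X
  set π := QuotientGroup.mk' (Cfsg.oddCore Y)
  have hker : f.ker ≤ π.ker := by
    rw [QuotientGroup.ker_mk']
    exact CfsgLib.PLocal.le_pPrimeCore (CfsgLib.PLocal.not_dvd_iff_coprime.2 hfk.not_two_dvd_nat)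
  set ρ : X →* Y ⧸ Cfsg.oddCore Y := (QuotientGroup.lift f.ker π hker).comp
    (QuotientGroup.quotientKerEquivOfSurjective f hf).symm.toMonoidHom with hρdef
  have hρf : ∀ y : Y, ρ (f y) = π y := fun y => by
    have : (QuotientGroup.quotientKerEquivOfSurjective f hf).symm (f y) = (y : Y ⧸ f.ker) := by
      rw [MulEquiv.symm_apply_eq]; rfl
    rw [hρdef, MonoidHom.comp_apply, MulEquiv.coe_toMonoidHom, this]
    rfl
  have hρs : Function.Surjective ρ := fun z => by
    obtain ⟨y, rfl⟩ := QuotientGroup.mk'_surjective (Cfsg.oddCore Y) z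
    exact ⟨f y, hρf y⟩
  have hρk : ∀ x : X, ρ x = 1 → Odd (orderOf x) := fun x hx => by
    obtain ⟨y, rfl⟩ := hf x
    rw [hρf] at hx
    exact ((Inv54.odd_card_oddCore (G := Y)).of_dvd_nat
      ((Cfsg.oddCore Y).orderOf_dvd_natCard ((QuotientGroup.eq_one_iff y).1 hx))).of_dvd_nat
      (orderOf_map_dvd f y)
  set SX : Subgroup X := ((S : Subgroup J).map J.subtype).subgroupOf X
  have hSle : (S : Subgroup J).map J.subtype ≤ X := by
    rintro _ ⟨s, hs, rfl⟩
    exact hmemX s (hfixS s hs)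
  have hSX8 : Nat.card SX = 8 := by
    rw [Nat.card_congr (subgroupOfEquivOfLe hSle).toEquiv, card_map_of_injective J.subtype_injective, hS8]
  have hSXp : IsPGroup 2 SX := IsPGroup.of_card (n := 3) (by rw [hSX8]; norm_num)
  have hinjS : ∀ s ∈ SX, ρ s = 1 → s = 1 := fun s hs h => by
    have hs2 := (hQ.subgroup X SX hSXp).1 s hs
    obtain ⟨k, hk⟩ := hρk s h
    have h1 := pow_orderOf_eq_one s
    rwa [hk, pow_succ, pow_mul, pow_two, hs2, one_pow, one_mul] at h1
  have hS8' : Nat.card (SX.map ρ) = 8 := by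
    rw [← hSX8]
    let q : SX → SX.map ρ := fun s => ⟨ρ s, mem_map_of_mem ρ s.2⟩
    refine (Nat.card_eq_of_bijective q ⟨fun a b h => ?_, ?_⟩).symm
    · have h' : ρ a = ρ b := congrArg Subtype.val h
      exact Subtype.ext (mul_inv_eq_one.1 (hinjS _ (mul_mem a.2 (inv_mem b.2))
        (by rw [map_mul, map_inv, h', mul_inv_cancel])))
    · rintro ⟨_, s, hs, rfl⟩; exact ⟨⟨s, hs⟩, rfl⟩
  have hYT : TwoType (Y ⧸ Cfsg.oddCore Y) := (hQ.subgroup X).of_surjective ρ hρs
  have hCX : ∀ x : centralizer ({tJ} : Set J), ((x : J) : Q) ∈ X := fun x =>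
    hmemX _ (hfix _ (x : J).2 (congrArg Subtype.val (mem_centralizer_singleton_iff.1 x.2)))
  let ιC : centralizer ({tJ} : Set J) →* X :=
    (J.subtype.comp (centralizer ({tJ} : Set J)).subtype).codRestrict X hCX
  rcases hK with hsol | ⟨L, hLn, hL, -, -⟩ | ⟨L, hLn, hLJ, hLC, hLo⟩
  · -- `C_J(t)` is not solvable
    exfalso
    have hsX : Group.IsSolvable X := by
      haveI := hsol
      haveI : Group.IsSolvable ρ.ker := Cfsg.Agent.S0205.result (Nat.not_even_iff_odd.1 fun h => by
        obtain ⟨x, hx⟩ := exists_prime_orderOf_dvd_card' (G := ρ.ker) 2 (even_iff_two_dvd.1 h)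
        have := hρk x x.2
        rw [orderOf_coe, hx] at this
        exact absurd this (by decide))
      exact Group.isSolvable_of_ker_le_range ρ.ker.subtype ρ (by rw [range_subtype])
    have hι : Function.Injective ιC := fun a b h => by
      have := congrArg (fun z : X => (z : Q)) h
      exact Subtype.ext (Subtype.ext this)
    haveI := hsX
    haveI := Group.isSolvable_of_isSolvable_injective (f := ιC) hι
    haveI : Group.IsSolvable (Matrix.ProjectiveSpecialLinearGroup (Fin 2) F) :=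
      Group.isSolvable_of_surjective (f := (MonoidHom.snd _ _).comp e.toMonoidHom)
        (Prod.snd_surjective.comp e.surjective)
    haveI : IsSimpleGroup (Matrix.ProjectiveSpecialLinearGroup (Fin 2) F) :=
      Linear.isSimpleGroup_PSL_of 2 le_rfl fun _ => by omega
    exact (show IsPSLOdd (Matrix.ProjectiveSpecialLinearGroup (Fin 2) F) from
      ⟨F, iF, fF, h8, h5, ⟨MulEquiv.refl _⟩⟩).not_isMulCommutative
      ⟨⟨IsSimpleGroup.comm_iff_isSolvable.2 inferInstance⟩⟩
  · -- one class of involutions: `L` contains the image of `S`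
    exfalso
    haveI := hLn
    obtain ⟨w, hw⟩ := exists_prime_orderOf_dvd_card' (G := L) 2
      ((show (2 : ℕ) ∣ 4 by norm_num).trans hL.four_dvd)
    obtain ⟨T, hT⟩ := hSXp.exists_le_sylow
    have hTS : (T : Subgroup X) = SX := (eq_of_le_of_card_ge hT
      (((hQ.subgroup X) T T.isPGroup').2.trans hSX8.ge)).symm
    obtain ⟨W, hW⟩ := (IsPGroup.of_card (n := 1) (by rw [Nat.card_zpowers, orderOf_coe, hw, pow_one]) :
      IsPGroup 2 (zpowers (w : Y ⧸ Cfsg.oddCore Y))).exists_le_sylow
    obtain ⟨g, hg⟩ := MulAction.exists_smul_eq (Y ⧸ Cfsg.oddCore Y) W (T.mapSurjective hρs)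
    have hgw : g * (w : Y ⧸ Cfsg.oddCore Y) * g⁻¹ ∈ (g • W : Sylow 2 (Y ⧸ Cfsg.oddCore Y)) :=
      ⟨_, hW (mem_zpowers _), rfl⟩
    rw [hg] at hgw
    replace hgw : g * (w : Y ⧸ Cfsg.oddCore Y) * g⁻¹ ∈ (T : Subgroup X).map ρ := hgw
    rw [hTS] at hgw
    obtain ⟨s, hs, hsw⟩ := hgw
    have hs1 : s ≠ 1 := by
      rintro rfl
      rw [map_one, eq_comm, conj_eq_one_iff] at hsw
      rw [show w = 1 from Subtype.ext hsw, orderOf_one] at hw
      omega
    have hsL : ρ s ∈ L := hsw ▸ hLn.conj_mem _ w.2 g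
    have hle : SX.map ρ ≤ L := by
      rintro _ ⟨a, ha, rfl⟩
      rcases eq_or_ne a 1 with rfl | ha1
      · rw [map_one]; exact one_mem L
      obtain ⟨⟨_, hsJ'⟩, hsS, hseq⟩ := (mem_subgroupOf.1 hs : (s : Q) ∈ _)
      obtain ⟨⟨_, haJ'⟩, haS, haeq⟩ := (mem_subgroupOf.1 ha : (a : Q) ∈ _)
      simp only [coe_subtype] at hseq haeq
      subst hseq haeq
      obtain ⟨n, hn, hna⟩ := exists_conj_of_simple hnc hTJ S (hS8 S) hsS
        (fun h => hs1 (Subtype.ext (congrArg Subtype.val h : (s : Q) = 1))) haS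
        (fun h => ha1 (Subtype.ext (congrArg Subtype.val h : (a : Q) = 1)))
      have hnX : (n : Q) ∈ X := hmemX n (hfixN n hn)
      have h2 : a = (⟨n, hnX⟩ : X) * s * (⟨n, hnX⟩ : X)⁻¹ := Subtype.ext (by
        have := congrArg Subtype.val hna
        push_cast at this ⊢
        exact this.symm)
      rw [h2, map_mul, map_mul, map_inv]
      exact hLn.conj_mem _ hsL _
    exact hL.not_eight_dvd (hS8' ▸ card_dvd_of_le hle)
  · haveI := hLn
    have hA : Odd (Nat.card ((Y ⧸ Cfsg.oddCore Y) ⧸ L)) := by rw [← index_eq_card]; exact hLo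
    have hCL : ∀ x, ρ (ιC x) ∈ L := fun x => by
      have h := DFunLike.congr_fun (eq_one_of_odd_image h5 h8 hA
        (((QuotientGroup.mk' L).comp (ρ.comp ιC)).comp e.symm.toMonoidHom)) (e x)
      simp only [MonoidHom.comp_apply, MulEquiv.coe_toMonoidHom, MulEquiv.symm_apply_apply,
        MonoidHom.one_apply] at h
      exact (QuotientGroup.eq_one_iff _).1 h
    set tC : centralizer ({tJ} : Set J) := ⟨tJ, mem_centralizer_singleton_iff.2 rfl⟩
    set tX : X := ιC tC with htX
    set tL : L := ⟨ρ tX, hCL tC⟩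
    have htL : orderOf tL = 2 := by
      refine Small.orderOf_eq_two_iff_sq.2 ⟨fun h => ?_, Subtype.ext ?_⟩
      · have := hρk tX (congrArg Subtype.val h)
        rw [← orderOf_coe, show (tX : Q) = t from rfl, ht] at this
        exact absurd this (by decide)
      · show ρ tX * ρ tX = 1
        rw [← map_mul, show tX * tX = 1 from Subtype.ext (Small.mul_self_of_orderOf_two ht), map_one]
    let g₀ : centralizer ({tJ} : Set J) →* L := (ρ.comp ιC).codRestrict L hCL
    have hg₀ : ∀ x, g₀ x ∈ centralizer ({tL} : Set L) := fun x =>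
      mem_centralizer_singleton_iff.2 (by
        rw [show tL = g₀ tC from rfl, ← map_mul, ← map_mul,
          show x * tC = tC * x from Subtype.ext (mem_centralizer_singleton_iff.1 x.2)])
    let g : centralizer ({tJ} : Set J) →* centralizer ({tL} : Set L) := g₀.codRestrict _ hg₀
    have hgker : ∀ x, g x = 1 → x = 1 := by
      intro x hx
      have hY1 : (g.ker.map (centralizer ({tJ} : Set J)).subtype) = ⊥ := by
        refine eq_bot_of_odd_normal (Or.inr hJR) htJ2 (map_subtype_le _) ?_ ?_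
        · have h := le_normalizer_map (H := g.ker) (centralizer ({tJ} : Set J)).subtype
          rwa [normalizer_eq_top, ← MonoidHom.range_eq_map, range_subtype] at h
        · rw [card_map_of_injective (centralizer ({tJ} : Set J)).subtype_injective]
          refine Nat.not_even_iff_odd.1 fun h => ?_
          obtain ⟨z, hz⟩ := exists_prime_orderOf_dvd_card' (G := g.ker) 2 (even_iff_two_dvd.1 h)
          have h' : ρ (ιC z) = 1 :=
            congrArg (fun w : centralizer ({tL} : Set L) => ((w : L) : Y ⧸ Cfsg.oddCore Y)) z.2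
          have := hρk _ h'
          rw [← orderOf_coe, show ((ιC (z : centralizer ({tJ} : Set J)) : X) : Q) =
            (((z : centralizer ({tJ} : Set J)) : J) : Q) from rfl, orderOf_coe, orderOf_coe,
            orderOf_coe, hz] at this
          exact absurd this (by decide)
      have h := (mem_bot.1 (hY1 ▸ mem_map_of_mem _ (MonoidHom.mem_ker.2 hx)))
      exact Subtype.ext h
    have hgs : Function.Surjective g := by
      rintro ⟨⟨l, hl⟩, hlt⟩
      obtain ⟨x, rfl⟩ := hρs l
      have hl' : ρ x * ρ tX = ρ tX * ρ x :=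
        congrArg Subtype.val (mem_centralizer_singleton_iff.1 hlt)
      have htX2 : orderOf tX = 2 := by rw [← orderOf_coe]; exact ht
      set s := x * tX * x⁻¹
      have hs : orderOf s = 2 := by rw [Small.orderOf_conj_eq, htX2]
      have hρs' : ρ s = ρ tX := by rw [map_mul, map_mul, map_inv, hl', mul_inv_cancel_right]
      have hk : ρ (s * tX) = 1 := by
        rw [map_mul, hρs', ← map_mul, show tX * tX = 1 from Small.mul_self_of_orderOf_two htX2, map_one]
      obtain ⟨k, hkc⟩ := Small.conj_pow_eq_of_odd hs htX2 (hρk _ hk)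
      set v := (s * tX) ^ k
      have hcomm : Commute (v * x) tX := mul_inv_eq_iff_eq_mul.1 (by
        rw [show v * x * tX * (v * x)⁻¹ = v * s * v⁻¹ by simp only [s]; group, hkc])
      have hmem : (⟨((v * x : X) : Q), (mem_inf.1 (v * x).2).1⟩ : J) ∈ centralizer ({tJ} : Set J) :=
        mem_centralizer_singleton_iff.2 (Subtype.ext (congrArg (fun z : X => (z : Q)) hcomm.eq))
      refine ⟨⟨_, hmem⟩, Subtype.ext (Subtype.ext ?_)⟩
      show ρ (v * x) = ρ x
      rw [map_mul, map_pow, hk, one_pow, one_mul]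
    let eg := MulEquiv.ofBijective g ⟨(injective_iff_map_eq_one g).2 hgker, hgs⟩
    rcases hLJ with h8L | hLJR
    · exfalso
      obtain ⟨F', iF', fF', h8', ⟨eL⟩⟩ := h8L
      haveI : CharP F' 2 := by
        obtain ⟨p, hp⟩ := CharP.exists F'
        haveI := hp
        obtain ⟨n, hpp, hn'⟩ := FiniteField.card F' p
        have h2 : p ∣ 2 ^ 3 := by
          rw [show (2 : ℕ) ^ 3 = Fintype.card F' by rw [h8']; norm_num, hn']
          exact dvd_pow_self p n.2.ne'
        exact (Nat.prime_dvd_prime_iff_eq hpp Nat.prime_two).1 (hpp.dvd_of_dvd_pow h2) ▸ hp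
      have hsq : ∀ z : centralizer ({tL} : Set L), z * z = 1 := fun z => Subtype.ext (eL.injective (by
        have h := AbelSolvCent.psl2_centralizer_invol_sq (u := eL tL) (d := eL (z : L))
          (by rw [← map_mul, Small.mul_self_of_orderOf_two htL, map_one])
          (fun h => Small.ne_one_of_orderOf_two htL (eL.injective (h.trans (map_one eL).symm)))
          (by rw [← map_mul, ← map_mul, mem_centralizer_singleton_iff.1 z.2])
        show eL ((z : L) * (z : L)) = eL 1
        rw [map_mul, h, map_one]))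
      refine (show IsPSLOdd (Matrix.ProjectiveSpecialLinearGroup (Fin 2) F) from
        ⟨F, iF, fF, h8, h5, ⟨MulEquiv.refl _⟩⟩).not_isMulCommutative ⟨⟨fun a b => ?_⟩⟩
      have hsq' : ∀ a : Matrix.ProjectiveSpecialLinearGroup (Fin 2) F, a * a = 1 := fun a => by
        have h := hsq (eg (e.symm (1, a)))
        rw [← map_mul, ← map_one eg, eg.injective.eq_iff, ← map_mul, ← map_one e.symm,
          e.symm.injective.eq_iff] at h
        exact congrArg Prod.snd h
      calc a * b = a * (a * b * (a * b)) * b := by rw [hsq', mul_one]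
        _ = a * a * (b * a) * (b * b) := by group
        _ = b * a := by rw [hsq', hsq', one_mul, mul_one]
    · haveI := hLJR.1
      have hcard := card_eq_of_centralizer hTJ (hYT.subgroup L) h5 htJ2 e htL (eg.symm.trans e)
      have hXJ : X = J := eq_of_le_of_card_ge inf_le_left (by
        rw [hcard]
        exact le_trans L.card_le_card_group (Nat.card_le_card_of_surjective ρ hρs))
      have : φ ∈ centralizer (J : Set Q) := mem_centralizer_iff.2 fun j hj =>
        mem_centralizer_singleton_iff.1 (mem_inf.1 (hXJ.symm ▸ hj : j ∈ X)).2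
      rwa [hC, mem_bot] at this

end CfsgLib.Walter
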