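import Cfsg.Agent.Walter.Beta
import Cfsg.Agent.Walter.TopModel

/-!
# Walter, strong embedding: fusion in a Janko–Ree group, odd homomorphic images of its centralizers
-/

set_option autoImplicit false
set_option linter.style.haveILetI false
set_option linter.unusedSectionVars false

open Subgroup

namespace CfsgLib.Walter

universe u

theorem TwoType.of_surjective {X Y : Type*} [Group X] [Finite X] [Group Y] [Finite Y] (h : TwoType X)
    (f : X →* Y) (hf : Function.Surjective f) : TwoType Y := by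
  haveI : Fact (Nat.Prime 2) := ⟨Nat.prime_two⟩
  intro T hT
  obtain ⟨P⟩ : Nonempty (Sylow 2 X) := inferInstance
  obtain ⟨h1, h2⟩ := h P P.isPGroup'
  obtain ⟨Q, hQ⟩ := hT.exists_le_sylow
  obtain ⟨g, hg⟩ := MulAction.exists_smul_eq Y (P.mapSurjective hf) Q
  refine ⟨fun a ha => ?_, ?_⟩
  · have haQ : a ∈ (g • P.mapSurjective hf : Sylow 2 Y) := hg.symm ▸ hQ ha
    obtain ⟨b, hb, rfl⟩ := haQ
    obtain ⟨c, hc, rfl⟩ := hb
    show g * f c * g⁻¹ * (g * f c * g⁻¹) = 1
    rw [show g * f c * g⁻¹ * (g * f c * g⁻¹) = g * (f c * f c) * g⁻¹ by group, ← map_mul, h1 c hc,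
      map_one, mul_one, mul_inv_cancel]
  · refine (card_le_of_le hQ).trans (le_trans (le_of_eq ?_)
      (le_trans (Nat.le_of_dvd Nat.card_pos (card_map_dvd (P : Subgroup X) f)) h2))
    exact Nat.card_congr (Sylow.equiv Q (P.mapSurjective hf)).toEquiv

theorem IsPSLOdd.not_eight_dvd {L : Type*} [Group L] (h : IsPSLOdd L) : ¬ 8 ∣ Nat.card L := by
  obtain ⟨F, iF, fF, h8, -, ⟨e⟩⟩ := h
  have h1 := Linear.card_PSL_two_odd (F := F) (Nat.odd_iff.2 (by omega))
  rw [← Nat.card_congr e.toEquiv] at h1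
  intro ⟨c, hc⟩
  rw [hc] at h1
  set q := Fintype.card F
  obtain ⟨k, hk⟩ : ∃ k, q = 8 * k + q % 8 := ⟨q / 8, by omega⟩
  obtain ⟨l, hl⟩ : ∃ l, q ^ 2 - 1 = 16 * l + 8 := by
    rcases h8 with h | h <;> rw [h] at hk <;> rw [hk]
    · exact ⟨4 * k * k + 3 * k, Nat.sub_eq_of_eq_add (by ring)⟩
    · exact ⟨4 * k * k + 5 * k + 1, Nat.sub_eq_of_eq_add (by ring)⟩
  rw [hl] at h1
  obtain ⟨i, hi⟩ : ∃ i, q = 2 * i + 1 := ⟨q / 2, by omega⟩
  rw [hi, show (2 * i + 1) * (16 * l + 8) = 16 * (2 * i * l + i + l) + 8 by ring] at h1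
  omega

/-- A homomorphism from `Z₂ × PSL₂(q)` to a group of odd order is trivial. -/
theorem eq_one_of_odd_image {F : Type} [Field F] [Fintype F] (h5 : 5 ≤ Fintype.card F)
    (hF : Fintype.card F % 8 = 3 ∨ Fintype.card F % 8 = 5) {A : Type*} [Group A] [Finite A]
    (hA : Odd (Nat.card A))
    (ψ : Multiplicative (ZMod 2) × Matrix.ProjectiveSpecialLinearGroup (Fin 2) F →* A) : ψ = 1 := by
  haveI : IsSimpleGroup (Matrix.ProjectiveSpecialLinearGroup (Fin 2) F) :=
    Linear.isSimpleGroup_PSL_of 2 le_rfl fun _ => by omega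
  have h2 : ∀ a : A, a * a = 1 → a = 1 := fun a ha => by
    obtain ⟨k, hk⟩ : Odd (orderOf a) := hA.of_dvd_nat (orderOf_dvd_natCard a)
    have h1 := pow_orderOf_eq_one a
    rwa [hk, pow_succ, pow_mul, pow_two, ha, one_pow, one_mul] at h1
  rcases IsSimpleGroup.eq_bot_or_eq_top_of_normal
      (ψ.comp (MonoidHom.inr (Multiplicative (ZMod 2)) (Matrix.ProjectiveSpecialLinearGroup (Fin 2) F))).ker
      inferInstance with h | h
  · exfalso
    have hinj := (MonoidHom.ker_eq_bot_iff _).1 h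
    have h4 : 4 ∣ Nat.card (Matrix.ProjectiveSpecialLinearGroup (Fin 2) F) :=
      (show IsPSLOdd (Matrix.ProjectiveSpecialLinearGroup (Fin 2) F) from
        ⟨F, inferInstance, inferInstance, hF, h5, ⟨MulEquiv.refl _⟩⟩).four_dvd
    have hd := h4.trans (card_dvd_of_injective _ hinj)
    exact hA.not_two_dvd_nat ((show (2 : ℕ) ∣ 4 by norm_num).trans hd)
  · refine MonoidHom.ext fun w => ?_
    have h1 : ψ (w.1, 1) = 1 := h2 _ (by
      rw [← map_mul, Prod.mk_mul_mk, (by decide : ∀ a : Multiplicative (ZMod 2), a * a = 1) w.1,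
        one_mul]
      exact map_one ψ)
    have h3 : ψ (1, w.2) = 1 := MonoidHom.mem_ker.1
      (h ▸ mem_top w.2 : w.2 ∈ (ψ.comp (MonoidHom.inr _ _)).ker)
    rw [show w = (w.1, 1) * (1, w.2) by simp, map_mul, h1, h3, one_mul]
    rfl

/-- In a simple group with elementary abelian Sylow 2-subgroups of order 4 or 8 the normalizer of one
is transitive on its involutions. -/
theorem exists_conj_of_simple' {J : Type u} [Group J] [Finite J] [IsSimpleGroup J]
    (hnc : ¬ IsMulCommutative J) (hJ : TwoType J) (S : Sylow 2 J)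
    (h8 : Nat.card (S : Subgroup J) = 4 ∨ Nat.card (S : Subgroup J) = 8) {a b : J} (ha : a ∈ (S : Subgroup J)) (ha1 : a ≠ 1)
    (hb : b ∈ (S : Subgroup J)) (hb1 : b ≠ 1) :
    ∃ n ∈ normalizer ((S : Subgroup J) : Set J), n * a * n⁻¹ = b := by
  classical
  haveI : Fact (Nat.Prime 2) := ⟨Nat.prime_two⟩
  haveI : IsMulCommutative (S : Subgroup J) :=
    ⟨⟨fun a b => Subtype.ext (hJ.comm _ S.isPGroup' a.2 b.2).eq⟩⟩
  let N : Subgroup J := normalizer ((S : Subgroup J) : Set J)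
  let I : Set J := {s | s ∈ (S : Subgroup J) ∧ s ≠ 1}
  have hI : I.ncard = 3 ∨ I.ncard = 7 := by
    rw [show I = ((S : Subgroup J) : Set J) \ {1} from rfl,
      Set.ncard_sdiff_singleton_of_mem (one_mem (S : Subgroup J)), ← Nat.card_coe_set_eq]
    show Nat.card (S : Subgroup J) - 1 = 3 ∨ Nat.card (S : Subgroup J) - 1 = 7
    omega
  letI act : MulAction N I :=
    { smul := fun n s => ⟨(n : J) * s * (n : J)⁻¹, (mem_normalizer_iff.1 n.2 s).1 s.2.1,
        fun h => s.2.2 (conj_eq_one_iff.1 h)⟩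
      one_smul := fun s => Subtype.ext (show (1 : J) * s * (1 : J)⁻¹ = s by group)
      mul_smul := fun m n s => Subtype.ext (show ((m : J) * n) * s * ((m : J) * n)⁻¹ =
        (m : J) * ((n : J) * s * (n : J)⁻¹) * (m : J)⁻¹ by group) }
  have hval : ∀ (n : N) (s : I), ((n • s : I) : J) = (n : J) * s * (n : J)⁻¹ := fun _ _ => rfl
  have hSN : Odd ((S : Subgroup J).subgroupOf N).index := Nat.odd_iff.2 (Nat.two_dvd_ne_zero.1 fun h =>
    S.not_dvd_index (h.trans (relIndex_dvd_index_of_le le_normalizer)))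
  have horb : ∀ s : I, Odd (MulAction.orbit N s).ncard ∧ 3 ≤ (MulAction.orbit N s).ncard := by
    intro s
    have hle : (S : Subgroup J).subgroupOf N ≤ MulAction.stabilizer N s := fun x hx =>
      MulAction.mem_stabilizer_iff.2 (Subtype.ext (by
        rw [hval, (hJ.comm _ S.isPGroup' (mem_subgroupOf.1 hx) s.2.1).eq, mul_inv_cancel_right]))
    have h1 : Odd (MulAction.orbit N s).ncard := hSN.of_dvd_nat (by
      rw [← MulAction.index_stabilizer]; exact index_dvd_of_le hle)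
    refine ⟨h1, ?_⟩
    obtain ⟨n, hn, hne⟩ := Inv53.exists_moves hnc S s.2.1 s.2.2
    have h2 : 1 < (MulAction.orbit N s).ncard := (Set.one_lt_ncard (Set.toFinite _)).2
      ⟨_, MulAction.mem_orbit s (⟨n, hn⟩ : N), _, MulAction.mem_orbit_self s,
        fun h => hne (congrArg Subtype.val h)⟩
    obtain ⟨k, hk⟩ := h1
    omega
  have h7 : Nat.card I = 3 ∨ Nat.card I = 7 := by rw [Nat.card_coe_set_eq]; exact hI
  have hdisj : ∀ s s' : I, s' ∉ MulAction.orbit N s →
      Disjoint (MulAction.orbit N s) (MulAction.orbit N s') := fun s s' h => by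
    refine Set.disjoint_left.2 fun w hw hw' => h ?_
    rw [← MulAction.orbit_eq_iff.2 hw, MulAction.orbit_eq_iff.2 hw']
    exact MulAction.mem_orbit_self s'
  set x : I := ⟨a, ha, ha1⟩
  set y : I := ⟨b, hb, hb1⟩
  suffices hy : y ∈ MulAction.orbit N x by
    obtain ⟨n, hn⟩ := hy
    exact ⟨n, n.2, congrArg Subtype.val hn⟩
  by_contra hy
  obtain ⟨⟨cx, hcx⟩, hx3⟩ := horb x
  obtain ⟨⟨cy, hcy⟩, hy3⟩ := horb y
  have hxy := Set.ncard_union_eq (hdisj x y hy)
  by_cases hall : MulAction.orbit N x ∪ MulAction.orbit N y = Set.univ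
  · rw [hall, Set.ncard_univ] at hxy
    omega
  · obtain ⟨w, hw⟩ := (Set.ne_univ_iff_exists_notMem _).1 hall
    rw [Set.mem_union, not_or] at hw
    have hd := Set.ncard_union_eq (Set.disjoint_union_left.2 ⟨hdisj x w hw.1, hdisj y w hw.2⟩)
    have := Set.ncard_le_ncard (Set.subset_univ
      (MulAction.orbit N x ∪ MulAction.orbit N y ∪ MulAction.orbit N w))
    rw [hd, hxy, Set.ncard_univ] at this
    have := (horb w).2
    omega

theorem exists_conj_of_simple {J : Type u} [Group J] [Finite J] [IsSimpleGroup J]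
    (hnc : ¬ IsMulCommutative J) (hJ : TwoType J) (S : Sylow 2 J)
    (h8 : Nat.card (S : Subgroup J) = 8) {a b : J} (ha : a ∈ (S : Subgroup J)) (ha1 : a ≠ 1)
    (hb : b ∈ (S : Subgroup J)) (hb1 : b ≠ 1) :
    ∃ n ∈ normalizer ((S : Subgroup J) : Set J), n * a * n⁻¹ = b :=
  exists_conj_of_simple' hnc hJ S (Or.inr h8) ha ha1 hb hb1

theorem IsJR.facts {J : Type u} [Group J] [Finite J] (hJR : IsJR J) (hJ : TwoType J) {t : J}
    (ht : orderOf t = 2) :
    ¬ IsMulCommutative J ∧ ∀ S : Sylow 2 J, Nat.card (S : Subgroup J) = 8 := by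
  haveI : Fact (Nat.Prime 2) := ⟨Nat.prime_two⟩
  obtain ⟨F, iF, fF, h8, h5, ⟨e⟩⟩ := hJR.2 t ht
  have hL : IsPSLOdd (Matrix.ProjectiveSpecialLinearGroup (Fin 2) F) :=
    ⟨F, iF, fF, h8, h5, ⟨MulEquiv.refl _⟩⟩
  refine ⟨fun h => hL.not_isMulCommutative ⟨⟨fun a b => ?_⟩⟩, fun S => le_antisymm (hJ S S.isPGroup').2 ?_⟩
  · have := congrArg e (Subtype.ext (h.is_comm.comm (e.symm (1, a) : J) (e.symm (1, b))) :
      e.symm (1, a) * e.symm (1, b) = e.symm (1, b) * e.symm (1, a))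
    rw [map_mul, map_mul, e.apply_symm_apply, e.apply_symm_apply] at this
    exact congrArg Prod.snd this
  · refine Nat.le_of_dvd Nat.card_pos (S.pow_dvd_card_of_pow_dvd_card (n := 3) ?_)
    refine dvd_trans ?_ (centralizer ({t} : Set J)).card_subgroup_dvd_card
    rw [Nat.card_congr e.toEquiv, Nat.card_prod, Nat.card_congr Multiplicative.toAdd, Nat.card_zmod]
    exact mul_dvd_mul_left 2 hL.four_dvd

end CfsgLib.Walter
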