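import Cfsg.Agent.Walter.SE.Rigid
import Cfsg.Agent.AutPSL.AutOrder

/-!
# Walter, strong embedding: the odd automorphisms of a Janko–Ree group over `GF(p^f)`

If `J` is a normal Janko–Ree subgroup of odd index with trivial centralizer, then `C(t)` covers the
quotient and embeds modulo `⟨t⟩` in the automorphisms of `PSL₂(q)`, so the index divides `f`.
-/

set_option autoImplicit false
set_option linter.style.haveILetI false
set_option linter.unusedSectionVars false

open Subgroup

namespace CfsgLib.Walter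

universe u

/-- All involutions of a Janko–Ree group are conjugate. -/
theorem IsJR.isConj {J : Type u} [Group J] [Finite J] (hJR : IsJR J) (hJ : TwoType J) {a b : J}
    (ha : orderOf a = 2) (hb : orderOf b = 2) : ∃ g : J, g * a * g⁻¹ = b := by
  haveI : Fact (Nat.Prime 2) := ⟨Nat.prime_two⟩
  haveI := hJR.1
  obtain ⟨hnc, hS8⟩ := hJR.facts hJ ha
  obtain ⟨S, hS⟩ := (IsPGroup.of_card (n := 1) (by rw [Nat.card_zpowers, ha, pow_one]) :
    IsPGroup 2 (zpowers a)).exists_le_sylow
  obtain ⟨T, hT⟩ := (IsPGroup.of_card (n := 1) (by rw [Nat.card_zpowers, hb, pow_one]) :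
    IsPGroup 2 (zpowers b)).exists_le_sylow
  obtain ⟨c, hc⟩ := MulAction.exists_smul_eq J T S
  have hbS : c * b * c⁻¹ ∈ (c • T : Sylow 2 J) := ⟨b, hT (mem_zpowers _), rfl⟩
  rw [hc] at hbS
  obtain ⟨n, -, hn⟩ := exists_conj_of_simple hnc hJ S (hS8 S) (hS (mem_zpowers _))
    (Small.ne_one_of_orderOf_two ha) hbS
    (fun h => Small.ne_one_of_orderOf_two hb (conj_eq_one_iff.1 h))
  refine ⟨c⁻¹ * n, ?_⟩
  rw [show c⁻¹ * n * a * (c⁻¹ * n)⁻¹ = c⁻¹ * (n * a * n⁻¹) * c by group, hn]
  group

theorem zmodTwo_cases : ∀ a b : Multiplicative (ZMod 2), a = 1 ∨ b = 1 ∨ a = b := by decide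

variable {Q : Type u} [Group Q] [Finite Q]

theorem index_dvd_of_rigid (hQ : TwoType Q) (J : Subgroup Q) [J.Normal]
    (hC : centralizer (J : Set Q) = ⊥) (hodd : Odd J.index) (hJR : IsJR J)
    (hsub : ∀ X : Subgroup Q, ∃ (Y : Type u) (_ : Group Y) (_ : Finite Y) (f : Y →* X),
      Function.Surjective f ∧ Odd (Nat.card f.ker) ∧ Known Y)
    {t : Q} (ht : orderOf t = 2) (htJ : t ∈ J) {F : Type} [Field F] [Fintype F]
    (hF : Fintype.card F % 8 = 3 ∨ Fintype.card F % 8 = 5) (h5 : 5 ≤ Fintype.card F)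
    (e : centralizer ({⟨t, htJ⟩} : Set J) ≃*
      Multiplicative (ZMod 2) × Matrix.ProjectiveSpecialLinearGroup (Fin 2) F)
    {p f : ℕ} [Fact p.Prime] (hq : Fintype.card F = p ^ f) (hf : 1 ≤ f) :
    J.index ∣ f ∧
      (centralizer ({t} : Set Q)).index * Nat.card (centralizer ({(⟨t, htJ⟩ : J)} : Set J)) =
        Nat.card J := by
  classical
  haveI : Fact (Nat.Prime 2) := ⟨Nat.prime_two⟩
  set q := Fintype.card F with hqdef
  set P := Matrix.ProjectiveSpecialLinearGroup (Fin 2) F
  have hP : IsPSLOdd P := ⟨F, inferInstance, inferInstance, hF, h5, ⟨MulEquiv.refl _⟩⟩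
  haveI : IsSimpleGroup P := hP.isSimpleGroup
  set tJ : J := ⟨t, htJ⟩
  set C := centralizer ({t} : Set Q)
  set CJ := centralizer ({tJ} : Set J)
  have htJ2 : orderOf tJ = 2 := by rw [← orderOf_coe]; exact ht
  -- the centralizer covers the quotient
  have hsup : J ⊔ C = ⊤ := eq_top_iff.2 fun g _ => by
    have hg : g * t * g⁻¹ ∈ J := ‹J.Normal›.conj_mem _ htJ g
    obtain ⟨j, hj⟩ := hJR.isConj (hQ.subgroup J) htJ2 (b := ⟨_, hg⟩) (by
      rw [← orderOf_coe]; exact (Small.orderOf_conj_eq g t).trans ht)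
    have hj' : (j : Q) * t * (j : Q)⁻¹ = g * t * g⁻¹ := congrArg Subtype.val hj
    have hmem : (j : Q)⁻¹ * g ∈ C := mem_centralizer_singleton_iff.2 (mul_inv_eq_iff_eq_mul.1 (by
      calc (j : Q)⁻¹ * g * t * ((j : Q)⁻¹ * g)⁻¹ = (j : Q)⁻¹ * (g * t * g⁻¹) * j := by group
        _ = t := by rw [← hj']; group))
    rw [show g = (j : Q) * ((j : Q)⁻¹ * g) by group]
    exact mul_mem_sup j.2 hmem
  have hrel : J.relIndex C = J.index := by
    rw [← relIndex_top_right, ← hsup, sup_comm, relIndex_sup_right]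
  have hmemC : ∀ x : CJ, ((x : J) : Q) ∈ C := fun x =>
    mem_centralizer_singleton_iff.2 (congrArg Subtype.val (mem_centralizer_singleton_iff.1 x.2))
  have hcardJC : Nat.card (J.subgroupOf C) = Nat.card CJ := Nat.card_congr
    { toFun := fun x => ⟨⟨((x : C) : Q), mem_subgroupOf.1 x.2⟩, mem_centralizer_singleton_iff.2
        (Subtype.ext (mem_centralizer_singleton_iff.1 (x : C).2))⟩
      invFun := fun x => ⟨⟨_, hmemC x⟩, mem_subgroupOf.2 (x : J).2⟩
      left_inv := fun x => rfl
      right_inv := fun x => rfl }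
  have hCcard : Nat.card C = Nat.card CJ * J.index := by
    rw [← hrel, ← hcardJC]; exact ((J.subgroupOf C).card_mul_index).symm
  refine ⟨?_, ?_⟩
  swap
  · have h1 := C.card_mul_index
    have h2 := J.card_mul_index
    rw [hCcard, ← h2] at h1
    refine Nat.eq_of_mul_eq_mul_right (Nat.pos_of_ne_zero (index_ne_zero_of_finite (H := J))) ?_
    rw [← h1]; ring
  -- the second factor
  let lam : P →* Q := J.subtype.comp (CJ.subtype.comp (e.symm.toMonoidHom.comp (MonoidHom.inr _ _)))
  have hlam : Function.Injective lam := fun a b h => by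
    have h' : e.symm ((1 : Multiplicative (ZMod 2)), a) = e.symm (1, b) :=
      Subtype.ext (Subtype.ext h)
    exact congrArg Prod.snd (e.symm.injective h')
  have hbot : ∀ χ : P →* Multiplicative (ZMod 2), χ = 1 := fun χ => by
    rcases IsSimpleGroup.eq_bot_or_eq_top_of_normal χ.ker inferInstance with h | h
    · exfalso
      have h1 := Nat.card_le_card_of_injective _ ((MonoidHom.ker_eq_bot_iff χ).1 h)
      have h4 := Nat.le_of_dvd Nat.card_pos hP.four_dvd
      rw [Nat.card_congr Multiplicative.toAdd, Nat.card_zmod] at h1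
      omega
    · exact MonoidHom.ker_eq_top_iff.1 h
  have hnorm : C ≤ normalizer (lam.range : Set Q) := by
    have key : ∀ c ∈ C, ∀ l : P, c * lam l * c⁻¹ ∈ lam.range := by
      intro c hc l
      have hmem : ∀ l : P, c * lam l * c⁻¹ ∈ J := fun l =>
        ‹J.Normal›.conj_mem _ (((e.symm (1, l) : CJ) : J).2) c
      have hmem' : ∀ l : P, (⟨_, hmem l⟩ : J) ∈ CJ := fun l => mem_centralizer_singleton_iff.2
        (Subtype.ext (by
          have h1 : t * c = c * t := (mem_centralizer_singleton_iff.1 hc).symm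
          have h2 : lam l * t = t * lam l :=
            mem_centralizer_singleton_iff.1 (hmemC (e.symm (1, l)))
          show c * lam l * c⁻¹ * t = t * (c * lam l * c⁻¹)
          calc c * lam l * c⁻¹ * t = c * lam l * (c⁻¹ * (t * c) * c⁻¹) := by group
            _ = c * lam l * (c⁻¹ * (c * t) * c⁻¹) := by rw [h1]
            _ = c * (lam l * t) * c⁻¹ := by group
            _ = c * (t * lam l) * c⁻¹ := by rw [h2]
            _ = (c * t) * lam l * c⁻¹ := by group
            _ = (t * c) * lam l * c⁻¹ := by rw [h1]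
            _ = t * (c * lam l * c⁻¹) := by group))
      let μ : P →* CJ := MonoidHom.mk' (fun l => ⟨⟨_, hmem l⟩, hmem' l⟩) fun a b =>
        Subtype.ext (Subtype.ext (by
          show c * lam (a * b) * c⁻¹ = c * lam a * c⁻¹ * (c * lam b * c⁻¹)
          rw [map_mul]; group))
      have h1 : (e (μ l)).1 = 1 := DFunLike.congr_fun
        (hbot ((MonoidHom.fst _ _).comp (e.toMonoidHom.comp μ))) l
      refine ⟨(e (μ l)).2, ?_⟩
      show ((e.symm (1, (e (μ l)).2) : CJ) : J).1 = c * lam l * c⁻¹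
      rw [← h1, Prod.mk.eta, e.symm_apply_apply]
      rfl
    intro c hc
    rw [mem_normalizer_iff]
    intro x
    constructor
    · rintro ⟨l, rfl⟩; exact key c hc l
    · rintro ⟨l, hl⟩
      have := key c⁻¹ (inv_mem hc) l
      rwa [hl, show c⁻¹ * (c * x * c⁻¹) * c⁻¹⁻¹ = x by group] at this
  let ψ : C →* MulAut lam.range := lam.range.normalizerMonoidHom.comp (Subgroup.inclusion hnorm)
  have hker : ∀ c ∈ ψ.ker, ∀ l : P, (c : Q) * lam l = lam l * (c : Q) := fun c hc l => by
    have := congrArg (fun a : MulAut lam.range => ((a ⟨lam l, l, rfl⟩ : lam.range) : Q))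
      (MonoidHom.mem_ker.1 hc)
    exact mul_inv_eq_iff_eq_mul.1 this
  have hz : ∀ a : Multiplicative (ZMod 2),
      ((e.symm (a, 1) : CJ) : J) = 1 ∨ ((e.symm (a, 1) : CJ) : J) = tJ := by
    set tC : CJ := ⟨tJ, mem_centralizer_singleton_iff.2 rfl⟩
    have h2 : (e tC).2 = 1 := by
      rw [← mem_bot, ← hP.center_eq_bot, mem_center_iff]
      intro l
      have h := congrArg (fun z => (e z).2) (show tC * e.symm (1, l) = e.symm (1, l) * tC from
        Subtype.ext (mem_centralizer_singleton_iff.1 (e.symm (1, l)).2).symm)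
      simp only [map_mul, e.apply_symm_apply, Prod.snd_mul] at h
      exact h.symm
    have htwo := zmodTwo_cases
    intro a
    rcases htwo a (e tC).1 with h | h | h
    · exact Or.inl (by rw [h, show ((1, 1) : Multiplicative (ZMod 2) × P) = 1 from rfl, map_one]; rfl)
    · exfalso
      have : tC = 1 := e.injective (by rw [map_one]; exact Prod.ext h h2)
      exact Small.ne_one_of_orderOf_two htJ2 (congrArg Subtype.val this)
    · exact Or.inr (by rw [h, show ((e tC).1, (1 : P)) = e tC from Prod.ext rfl h2.symm,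
        e.symm_apply_apply])
  have hdec : ∀ x : CJ, ((x : J) : Q) = lam (e x).2 ∨ ((x : J) : Q) = t * lam (e x).2 := fun x => by
    have h1 : x = e.symm ((e x).1, 1) * e.symm (1, (e x).2) := by
      rw [← map_mul, Prod.mk_mul_mk, mul_one, one_mul, Prod.mk.eta, e.symm_apply_apply]
    have h2 : ((x : J) : Q) = (((e.symm ((e x).1, 1) : CJ) : J) : Q) * lam (e x).2 :=
      congrArg (fun z : CJ => ((z : J) : Q)) h1
    rcases hz (e x).1 with h | h <;> rw [h] at h2
    · exact Or.inl (by rwa [OneMemClass.coe_one, one_mul] at h2)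
    · exact Or.inr h2
  have hkerJ : ∀ c ∈ ψ.ker, (c : Q) = 1 ∨ (c : Q) = t := by
    intro c hc
    obtain ⟨a, b, hb, hn⟩ := Nat.exists_eq_two_pow_mul_odd
      (show orderOf (c : Q) ≠ 0 from (orderOf_pos _).ne')
    have hd : (c : Q) ^ 2 ^ a = 1 := by
      refine eq_one_of_fixes hQ J hC hJR hsub ht htJ (φ := (c : Q) ^ 2 ^ a) (hb.of_dvd_nat
        (orderOf_dvd_of_pow_eq_one (by rw [← pow_mul, ← hn, pow_orderOf_eq_one]))) fun x hx hxt => ?_
      refine Commute.pow_left ?_ _
      have hxC : (⟨x, hx⟩ : J) ∈ CJ := mem_centralizer_singleton_iff.2 (Subtype.ext hxt.eq)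
      rcases hdec ⟨_, hxC⟩ with h | h <;> simp only at h <;> rw [h]
      · exact hker c hc _
      · exact Commute.mul_right (mem_centralizer_singleton_iff.1 c.2) (hker c hc _)
    have hcJ : (c : Q) ∈ J := by
      have h1 : (QuotientGroup.mk' J (c : Q)) ^ 2 ^ a = 1 := by rw [← map_pow, hd, map_one]
      have h2 : (QuotientGroup.mk' J (c : Q)) ^ J.index = 1 := by
        rw [index_eq_card]; exact pow_card_eq_one'
      have h3 := pow_gcd_eq_one.2 ⟨h1, h2⟩
      rw [(Nat.Coprime.pow_left a (Nat.coprime_two_left.2 hodd)).gcd_eq_one, pow_one] at h3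
      exact (QuotientGroup.eq_one_iff _).1 h3
    have hcC : (⟨_, hcJ⟩ : J) ∈ CJ :=
      mem_centralizer_singleton_iff.2 (Subtype.ext (mem_centralizer_singleton_iff.1 c.2))
    have h2 : (e ⟨_, hcC⟩).2 = 1 := by
      rw [← mem_bot, ← hP.center_eq_bot, mem_center_iff]
      intro l
      have hl : (⟨_, hcC⟩ : CJ) * e.symm (1, l) = e.symm (1, l) * ⟨_, hcC⟩ :=
        Subtype.ext (Subtype.ext (hker c hc l))
      have h := congrArg (fun z => (e z).2) hl
      simp only [map_mul, e.apply_symm_apply, Prod.snd_mul] at h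
      exact h.symm
    rcases hdec ⟨_, hcC⟩ with h | h <;> simp only at h <;> rw [h2, map_one] at h
    · exact Or.inl h
    · exact Or.inr (by rwa [mul_one] at h)
  have hker2 : Nat.card ψ.ker ∣ 2 := by
    have hle : ψ.ker.map C.subtype ≤ zpowers t := by
      rintro _ ⟨c, hc, rfl⟩
      rcases hkerJ c hc with h | h
      · rw [coe_subtype, h]; exact one_mem _
      · rw [coe_subtype, h]; exact mem_zpowers t
    have := card_dvd_of_le hle
    rwa [card_map_of_injective C.subtype_injective, Nat.card_zpowers, ht] at this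
  have hrange : Nat.card ψ.range ∣ f * (q * (q ^ 2 - 1)) := by
    refine (card_subgroup_dvd_card ψ.range).trans (dvd_of_eq ?_)
    rw [Nat.card_congr (MulAut.congr (MonoidHom.ofInjective hlam).symm).toEquiv,
      AutPSL.card_aut_psl hq hf le_rfl, if_pos rfl, one_mul, AutPSL.card_ringEquiv hq hf,
      Linear.card_PGL, Linear.card_SL_two]
  have h1 : Nat.card C ∣ 2 * (f * (q * (q ^ 2 - 1))) := by
    rw [← ψ.ker.card_mul_index, index_ker]
    exact mul_dvd_mul hker2 hrange
  rw [hCcard, Nat.card_congr e.toEquiv, Nat.card_prod, Nat.card_congr Multiplicative.toAdd,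
    Nat.card_zmod, Linear.card_PSL_two_odd (Nat.odd_iff.2 (by omega))] at h1
  have hpos : 0 < q * (q ^ 2 - 1) := by
    have : 1 < q ^ 2 := by nlinarith
    exact Nat.mul_pos (by omega) (by omega)
  rw [show 2 * (f * (q * (q ^ 2 - 1))) = q * (q ^ 2 - 1) * (2 * f) by ring] at h1
  exact (Nat.coprime_two_right.2 hodd).dvd_of_dvd_mul_left
    ((Nat.mul_dvd_mul_iff_left hpos).1 h1)

end CfsgLib.Walter
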